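import Cfsg.Prelude.Def_Spor_Mathieu
import Cfsg.Agent.H994.TwoGen.Chain
import Cfsg.Agent.SporadicA.MathieuRecog
import Cfsg.Agent.J4.M24Hom

/-!
# Generators of `M23`: a translation, a multiplication, the cube twist

`gx`, `gy`, `gf` with the relations used in `Kill`, and `closure {gx, gf} = ⊤`.
-/

set_option autoImplicit false

namespace Cfsg.Agent.H4.LDM.M23El

open Cfsg Cfsg.Agent.H994.TwoGen.Chain
open Cfsg.Agent.J4.M24Hom (fn perm_ext)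

/-- table of `i + 1` -/
def tx : List ℕ := [1, 2, 3, 4, 5, 6, 7, 8, 9, 10, 11, 12, 13, 14, 15, 16, 17, 18, 19, 20, 21, 22, 0, 23]
/-- its inverse -/
def txi : List ℕ := [22, 0, 1, 2, 3, 4, 5, 6, 7, 8, 9, 10, 11, 12, 13, 14, 15, 16, 17, 18, 19, 20, 21, 23]
/-- table of `2 i` -/
def ty : List ℕ := [0, 2, 4, 6, 8, 10, 12, 14, 16, 18, 20, 22, 1, 3, 5, 7, 9, 11, 13, 15, 17, 19, 21, 23]
/-- its inverse -/
def tyi : List ℕ := [0, 12, 1, 13, 2, 14, 3, 15, 4, 16, 5, 17, 6, 18, 7, 19, 8, 20, 9, 21, 10, 22, 11, 23]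
/-- table of the cube twist -/
def tf : List ℕ := [0, 18, 6, 3, 2, 21, 1, 5, 16, 12, 7, 19, 8, 9, 17, 15, 13, 11, 4, 22, 10, 20, 14, 23]
/-- its inverse -/
def tfi : List ℕ := [0, 6, 4, 3, 18, 7, 2, 10, 12, 13, 20, 17, 9, 16, 22, 15, 8, 14, 1, 11, 21, 5, 19, 23]

/-- `i + 1` -/
def X : Equiv.Perm GolayPt where
  toFun := fn tx
  invFun := fn txi
  left_inv := by decide +kernel
  right_inv := by decide +kernel

/-- `2 i` -/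
def Y : Equiv.Perm GolayPt where
  toFun := fn ty
  invFun := fn tyi
  left_inv := by decide +kernel
  right_inv := by decide +kernel

/-- the cube twist -/
def F : Equiv.Perm GolayPt where
  toFun := fn tf
  invFun := fn tfi
  left_inv := by decide +kernel
  right_inv := by decide +kernel

theorem X_mem : X ∈ Spor.M23 := (SporadicA.MathieuRecog.mem_M23_iff _).2
  ⟨SporadicA.GolayWalk.mem_M24_of_table X tx rfl (by decide +kernel) (by decide +kernel), by decide +kernel⟩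

theorem Y_mem : Y ∈ Spor.M23 := (SporadicA.MathieuRecog.mem_M23_iff _).2
  ⟨SporadicA.GolayWalk.mem_M24_of_table Y ty rfl (by decide +kernel) (by decide +kernel), by decide +kernel⟩

theorem F_mem : F ∈ Spor.M23 := (SporadicA.MathieuRecog.mem_M23_iff _).2
  ⟨SporadicA.GolayWalk.mem_M24_of_table F tf rfl (by decide +kernel) (by decide +kernel), by decide +kernel⟩

/-- the stabiliser chain -/
def chain : List (GolayPt × List (List ℕ)) :=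
  [(some 0, [[], [0], [0, 0], [0, 0, 0], [3, 0, 0], [2, 3, 0], [3, 0], [0, 3, 0], [0, 0, 3, 0], [1, 2, 1, 2],
  [3, 0, 3, 0], [3, 3, 2], [2, 2, 1, 2], [2, 1, 2], [1, 2], [0, 1, 2], [2, 2, 1, 0], [2, 1, 0], [1, 0], [3,
  2], [1, 2, 2], [2, 2], [2]]),
   (some 1, [[], [3, 3], [0, 1, 0, 3, 3, 0, 0], [1, 1], [0, 0, 1, 2, 3, 0], [3], [0, 0, 3, 2, 2, 2], [3, 2,
  2, 3, 3, 0], [2, 1, 0, 3, 2, 2], [0, 1, 2, 1, 2, 2], [0, 3, 3, 2, 1, 0], [2, 1, 1, 0, 0, 3], [1, 2, 2, 3,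
  3, 0], [0, 0, 3, 0, 0, 1, 0], [2, 2, 3, 3, 0, 1], [2, 2, 3, 3, 0], [0, 0, 0, 1, 2, 2], [1], [2, 2, 1, 0, 0,
  0, 0], [2, 1, 0, 0, 3, 0, 0], [1, 0, 0, 1, 2, 3, 0], [2, 2, 2, 1, 0, 0, 0]]),
   (some 2, [[], [1, 0, 1, 0, 1, 0], [0, 1, 2, 1, 1, 2, 1, 0, 0], [2, 2, 3, 0, 0, 1, 1, 0], [3, 0, 0, 1, 1,
  0, 3, 0, 1], [0, 1, 2, 3, 3, 0, 1, 0, 0], [1, 2, 1, 1, 0, 0, 1], [1, 2, 1, 2, 3, 3, 2, 2], [3, 0, 1, 2, 2,
  2, 2, 1], [2, 2, 2, 3, 2, 3, 0, 0], [3, 2, 2, 3, 3, 0, 3], [1, 0, 3, 3, 0, 3, 2, 1, 2], [3, 2, 1, 1, 2, 3,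
  0, 0, 0], [2, 2, 3, 3, 0, 3, 3], [2, 2, 3, 0, 1, 0, 1, 0, 0], [3, 0, 0, 0, 0, 3, 2, 1], [1, 1, 0, 3, 3, 2,
  1, 0, 3], [2, 3, 3, 0, 1, 2, 1, 1, 0], [1, 1, 2, 1, 1, 0, 0], [3, 3, 0, 0, 0, 0, 3, 2], [2, 3, 3, 2, 2, 1,
  0, 0]]),
   (some 3, [[], [0, 1, 0, 1, 0, 1], [2, 3, 3, 2, 2, 2, 3, 2, 1, 0, 0], [3, 3, 0, 0, 1, 0, 3, 0, 0], [2, 2,
  3, 3, 2, 1, 2, 1, 0, 1, 0, 0, 1], [0, 3, 2, 3, 2, 2, 3, 3, 0, 1, 0], [2, 3, 2, 1, 0, 3, 0, 3, 0, 1], [2, 2,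
  1, 1, 2, 3, 0, 1, 0, 0, 0, 0, 0], [2, 1, 2, 3, 0, 1, 1, 0, 1, 1], [0, 1, 1, 2, 3, 2, 2, 2, 1, 2, 1, 0], [2,
  3, 0, 0, 0, 1, 2, 2, 2, 1, 0], [1, 0, 0, 0, 1, 1, 2, 3, 0], [0, 0, 0, 0, 0, 3, 0, 0, 0, 0, 1], [1, 1, 0, 3,
  3, 0, 0, 3, 3, 0, 1, 2], [2, 1, 0, 3, 3, 2, 2, 2, 3], [2, 3, 0, 0, 0, 3, 2, 2, 2, 1, 0], [2, 2, 1, 2, 3, 2,
  2, 1, 1], [2, 3, 2, 1, 1, 0, 0, 1, 0, 1, 2], [3, 2, 1, 2, 1, 2, 3, 0, 1, 0], [1, 2, 2, 3, 2, 2, 1, 0, 3, 3,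
  2]]),
   (some 4, [[], [1, 1, 2, 1, 2, 2, 2, 1, 2, 1, 2, 1, 1], [2, 3, 0, 0, 1, 0, 1, 2, 2, 3, 0, 0, 3, 0, 1], [1,
  0, 3, 3, 0, 1, 1, 0, 0, 1, 0, 3, 2, 1], [2, 1, 2, 2, 2, 3, 0, 3, 2, 2, 2, 2, 3], [2, 3, 0, 1, 1, 2, 3, 3,
  2, 2, 2, 2, 3, 0, 0], [2, 1, 1, 2, 3, 0, 1, 0, 0, 0, 0], [1, 1, 2, 3, 2, 2, 2, 1, 0, 1, 1, 0], [0, 1, 0, 0,
  3, 0, 3, 2, 1, 0, 3, 3, 2, 1], [2, 3, 0, 3, 0, 3, 2, 2, 1, 1, 0, 0, 1, 2, 1], [2, 3, 0, 1, 1, 2, 3, 2, 2,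
  1, 0, 0, 0, 0], [2, 3, 3, 2, 3, 2, 2, 2, 3, 2, 2, 1, 2, 2], [3, 2, 3, 2, 1, 0, 1, 1, 0, 3, 3, 0, 3, 0], [2,
  2, 2, 2, 3, 2, 1, 0, 3, 3, 0], [3, 3, 0, 1, 0, 3, 0, 3, 0, 0, 0, 1], [2, 3, 3, 2, 3, 0, 0, 1, 2, 2, 2, 1,
  2, 3]]),
   (some 5, [[], [3, 2, 3, 2, 2, 1, 1, 2, 1, 0, 3, 2, 3, 2, 3], [1, 0, 1, 0, 1, 2, 3, 0, 3, 3, 0, 0, 1, 0,
  1]])]

theorem chain_ok : ok X F [] chain = true := by decide +kernel

theorem size_chain : size chain = 10200960 := by decide +kernel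

theorem closure_eq : Subgroup.closure ({X, F} : Set (Equiv.Perm GolayPt)) = Spor.M23 :=
  H994.TwoGen.Chain.closure_eq X_mem F_mem chain chain_ok (by rw [size_chain, SporadicA.MathieuRecog.card_M23])

theorem x_pow : X ^ 23 = 1 := by apply perm_ext; decide +kernel
theorem y_pow : Y ^ 11 = 1 := by apply perm_ext; decide +kernel
theorem x_ne : X ≠ 1 := by
  intro h
  have h1 := DFunLike.congr_fun h (some 0)
  revert h1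
  decide +kernel
theorem y_x : Y * X = X ^ 2 * Y := by apply perm_ext; decide +kernel
theorem f_y : F * Y = Y ^ 3 * F := by apply perm_ext; decide +kernel
theorem y_f : Y * F = F * Y ^ 4 := by apply perm_ext; decide +kernel
theorem rel : F * X ^ 8 * F ^ 3 * X ^ 22 * F ^ 4 * X ^ 4 = X ^ 5 * (Y ^ 10 * F ^ 4) := by
  apply perm_ext; decide +kernel

/-- the generators as elements of the group -/
def gx : Spor.M23 := ⟨X, X_mem⟩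
/-- the generators as elements of the group -/
def gy : Spor.M23 := ⟨Y, Y_mem⟩
/-- the generators as elements of the group -/
def gf : Spor.M23 := ⟨F, F_mem⟩

theorem gx_pow : gx ^ 23 = 1 := Subtype.ext x_pow
theorem gy_pow : gy ^ 11 = 1 := Subtype.ext y_pow
theorem gx_ne : gx ≠ 1 := fun h => x_ne (congrArg Subtype.val h)
theorem gy_gx : gy * gx = gx ^ 2 * gy := Subtype.ext y_x
theorem gf_gy : gf * gy = gy ^ 3 * gf := Subtype.ext f_y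
theorem gy_gf : gy * gf = gf * gy ^ 4 := Subtype.ext y_f
theorem grel : gf * gx ^ 8 * gf ^ 3 * gx ^ 22 * gf ^ 4 * gx ^ 4 = gx ^ 5 * (gy ^ 10 * gf ^ 4) := Subtype.ext rel

theorem closure_top : Subgroup.closure ({gx, gf} : Set Spor.M23) = ⊤ := by
  apply Subgroup.map_injective Spor.M23.subtype_injective
  rw [MonoidHom.map_closure, Set.image_pair, ← MonoidHom.range_eq_map, Subgroup.range_subtype]
  exact closure_eq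

end Cfsg.Agent.H4.LDM.M23El
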