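import Cfsg.Agent.H4.LDM.Pk
import Cfsg.Agent.H858.M24Norm

/-!
# Elements of odd order of `M24` and of `M23` are conjugate to their squares

* `m24_odd` : all of them in `M24`;
* `m23_odd` : all of them in `M23`, except the elements of order 11.
-/

set_option autoImplicit false
set_option maxRecDepth 100000

namespace Cfsg.Agent.H4.LDM.OddCls

open Cfsg Cfsg.Agent.SporadicA.GolayBase Cfsg.Agent.SporadicA.GolayPerm
open Cfsg.Agent.SporadicStructure.M24El Cfsg.Agent.H921.Spor.M24
open Cfsg.Agent.H4.LDM Cfsg.Agent.H4.LDM.Cls Cfsg.Agent.H4.LDM.Pk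

/-- order 5 -/
def pb5 : ℕ := 974380510768821363662145534143076928
/-- order 3, commutes with `pb5` -/
def ps5 : ℕ := 984004400463187162086834820161713539
/-- squares `pb5` and `ps5` -/
def pd5 : ℕ := 984447756380300809835322717071984672
/-- order 7 -/
def pb7 : ℕ := 956204443875114209033826656982534501
/-- squares `pb7` -/
def pc7 : ℕ := 979087185832140178386717904352676480
/-- order 3, commutes with `pb7` -/
def ps7 : ℕ := 91526925523548392188218121073037891
/-- squares `pb7` and `ps7` -/
def pd7 : ℕ := 107017730628429735379405642484276768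
/-- order 11 -/
def py : ℕ := 983435072843990828779021698901151808
/-- squares `py` -/
def pc11 : ℕ := 21507104985784244111699453981183703
/-- order 23 -/
def px : ℕ := 956302485175575353788796878166559809
/-- inverts `l9` -/
def pt9 : ℕ := 974394346221993445123207505184786688
/-- a Sylow 3-subgroup of `M24` -/
def l27 : List ℕ := [817853369680858109673531483824102790, 735223070473652713718787336691660458,
  984437951816605262332284416638852783, 969961383214456154440035630678286415,
  807743842508711194763217664935679621, 720514513131120916452948087091306928,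
  735585606166899674920758831597755428, 973889808896436192447257015689949839,
  803604980633653248231297764460513705, 984004400463187162086834820161713539,
  974303069188950680052233339375420675, 974370262084462166408660852066604608,
  818649456719325696308765665450472485, 720974681442126310747327774980198634,
  725065366406752868533266734284035332, 808135553989843244031636851492303113,
  724653393580001781871403777530332816, 734761648135432317301644823525394832,
  818297034993441871521648523504421545, 804062577756155736909392977042022629,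
  808223008249373325094574087223936582, 803793849427962720292123847614058566,
  969769943208220617646258050704724384, 725154108143532141922003410873365066,
  984818244535754528103549039458486304, 970190816817016208365243511213639907,
  720742676626883506669784046080903236]
/-- a Sylow 3-subgroup of `M23` -/
def l9 : List ℕ := [984004400463187162086834820161713539, 984437951816605262332284416638852783,
  969769943208220617646258050704724384, 974303069188950680052233339375420675,
  974370262084462166408660852066604608, 969961383214456154440035630678286415,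
  973889808896436192447257015689949839, 984818244535754528103549039458486304,
  970190816817016208365243511213639907]
/-- elements inverting the elements of `l27` -/
def lc : List ℕ := [3258552471593433733764903651610675, 965014491860979695465569144841679200,
  691434443382146483745195827954964832, 983994269055637267981660848321437344,
  818659814345948688740803886013827456, 981756778038972784815457786214649344,
  591180712788083258318961446638159168, 647037414847273370342074465033882240,
  751075854092029609855595947463525728, 70589927182301532654069126495113696,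
  641396357137665498621333539544685696, 892285831505503478550310986407693344,
  806158246595015133599236482831485600]

/-! ### centralizers -/

theorem card_cent_dvd {T T' : Type*} [Group T] [Group T'] [Finite T'] {r : ℕ} (hr : r.Prime)
    (hr2 : ¬ r ^ 2 ∣ Nat.card T') (f : T →* T') (hf : Function.Injective f) {b : T} {q : T'} (hb : orderOf b = r)
    (hq : orderOf q = r) : Nat.card (Subgroup.centralizer {b}) ∣ Nat.card (Subgroup.centralizer {q}) := by
  have : Fact r.Prime := ⟨hr⟩
  have hfb : orderOf (f b) = r := by rw [orderOf_injective f hf, hb]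
  obtain ⟨t, k, ht⟩ := exists_conj_pow hr2 hfb hq
  have hk : q ^ k ≠ 1 := by
    intro h1
    rw [h1] at ht
    have h2 : f b = 1 := by
      have : f b = t⁻¹ * (t * f b * t⁻¹) * t := by group
      rw [this, ht]; group
    rw [h2, orderOf_one] at hfb
    exact hr.one_lt.ne hfb
  have hmem : ∀ u : Subgroup.centralizer {b},
      ((MulAut.conj t).toMonoidHom.comp (f.comp (Subgroup.centralizer {b}).subtype)) u ∈ Subgroup.centralizer {q} := by
    intro u
    have hu : (u : T) * b = b * u := ((Subgroup.mem_centralizer_iff.1 u.2) b rfl).symm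
    have h3 : (t * f u * t⁻¹) * q = q * (t * f u * t⁻¹) := by
      apply comm_of_pow hq hk
      rw [← ht]
      calc t * f u * t⁻¹ * (t * f b * t⁻¹) = t * f ((u : T) * b) * t⁻¹ := by rw [map_mul]; group
        _ = t * f (b * u) * t⁻¹ := by rw [hu]
        _ = t * f b * t⁻¹ * (t * f u * t⁻¹) := by rw [map_mul]; group
    rw [Subgroup.mem_centralizer_iff]
    rintro c rfl
    exact h3.symm
  refine Subgroup.card_dvd_of_injective (MonoidHom.codRestrict _ _ hmem) ?_
  intro u v h
  have h1 : (MulAut.conj t) (f u) = (MulAut.conj t) (f v) := congrArg Subtype.val h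
  exact Subtype.ext (hf ((MulAut.conj t).injective h1))

theorem nine_five : ¬ 9 ∣ Nat.card (Subgroup.centralizer {H858.M24Norm.q}) := by
  intro h
  have h1 : Nat.card (Subgroup.centralizer {H858.M24Norm.q}) ∣ 240 := by
    rw [← H858.M24Norm.card_normalizer_Q, ← H858.NormC.centralizer_zpowers]
    exact Subgroup.card_dvd_of_le (H858.NormC.centralizer_le_normalizer _)
  have h2 := h.trans h1
  norm_num at h2

theorem nine_seven : ¬ 9 ∣ Nat.card (Subgroup.centralizer {H858.M24Norm.s}) := by
  intro h
  have hS : Subgroup.centralizer {H858.M24Norm.s} = Subgroup.centralizer (H858.M24Norm.S : Set M24) :=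
    (H858.NormC.centralizer_zpowers _).symm
  rw [hS] at h
  set f := (H858.M24Norm.S).normalizerMonoidHom with hf
  have h1 : Nat.card f.range * Nat.card (Subgroup.centralizer (H858.M24Norm.S : Set M24)) = 126 := by
    rw [← H858.M24Norm.card_normalizer_S, ← Subgroup.index_ker, hf, Subgroup.normalizerMonoidHom_ker]
    have h2 : Nat.card ((Subgroup.centralizer (H858.M24Norm.S : Set M24)).subgroupOf
        (Subgroup.normalizer (H858.M24Norm.S : Set M24))) = Nat.card (Subgroup.centralizer (H858.M24Norm.S : Set M24)) :=
      Nat.card_congr (Subgroup.subgroupOfEquivOfLe (H858.NormC.centralizer_le_normalizer _)).toEquiv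
    rw [← h2]
    exact Subgroup.index_mul_card _
  have h3 : orderOf (f ⟨H858.M24Norm.e, H858.M24Norm.e_mem⟩) = 3 := by
    apply orderOf_eq_prime
    · rw [← map_pow]
      have : (⟨H858.M24Norm.e, H858.M24Norm.e_mem⟩ : Subgroup.normalizer (H858.M24Norm.S : Set M24)) ^ 3 = 1 :=
        Subtype.ext H858.M24Norm.e_pow
      rw [this, map_one]
    · intro h4
      have h5 : (⟨H858.M24Norm.e, H858.M24Norm.e_mem⟩ : Subgroup.normalizer (H858.M24Norm.S : Set M24)) ∈ f.ker := h4
      rw [hf, Subgroup.normalizerMonoidHom_ker, Subgroup.mem_subgroupOf] at h5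
      have h6 := (Subgroup.mem_centralizer_iff.1 h5) H858.M24Norm.s (Subgroup.mem_zpowers _)
      have h7 := H858.M24Norm.e_mul_s
      change H858.M24Norm.s * H858.M24Norm.e = H858.M24Norm.e * H858.M24Norm.s at h6
      rw [h7] at h6
      have h8 : H858.M24Norm.s = H858.M24Norm.s * H858.M24Norm.s := mul_right_cancel h6
      exact H858.M24Norm.s_ne (by simpa using h8.symm)
  have h4 : 3 ∣ Nat.card f.range := by
    have h5 : orderOf (⟨f ⟨H858.M24Norm.e, H858.M24Norm.e_mem⟩, ⟨_, rfl⟩⟩ : f.range) = 3 := by
      rw [← Subgroup.orderOf_coe]; exact h3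
    rw [← h5]
    exact orderOf_dvd_natCard _
  have h5 : 3 * 9 ∣ 126 := by
    rw [← h1]
    exact Nat.mul_dvd_mul h4 h
  norm_num at h5

/-! ### `M24` -/

theorem card24 : Nat.card M24 = 244823040 := SporadicA.M24Trans.card_M24

instance finite24 : Finite M24 := Nat.finite_of_card_ne_zero (by rw [card24]; norm_num)

theorem sq_ndvd {r m n : ℕ} (h : n = m) (h' : ¬ r ^ 2 ∣ m) : ¬ r ^ 2 ∣ n := h ▸ h'

theorem fix_x : (Finset.univ.filter fun a : GolayPt => (el px : Equiv.Perm GolayPt) a = a).card < 3 := by
  rw [coe_el (by decide +kernel : ok px = true)]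
  decide +kernel

theorem fix_y : (Finset.univ.filter fun a : GolayPt => (el py : Equiv.Perm GolayPt) a = a).card < 3 := by
  rw [coe_el (by decide +kernel : ok py = true)]
  decide +kernel

theorem fix_b : (Finset.univ.filter fun a : GolayPt => (el pb5 : Equiv.Perm GolayPt) a = a).card < 7 := by
  rw [coe_el (by decide +kernel : ok pb5 = true)]
  decide +kernel

/-- the orders in a group of order dividing that of `M24`, with elements packed -/
theorem orders {T : Type*} [Group T] [Finite T] {K : Pk T} (hT : Nat.card T ∣ 244823040) (hx : K.okT px = true)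
    (hy : K.okT py = true) (hb : K.okT pb5 = true) (h9 : ∀ g : T, ¬ 9 ∣ orderOf g) (g : T) (h2 : ¬ 2 ∣ orderOf g) :
    orderOf g = 1 ∨ orderOf g = 3 ∨ orderOf g = 5 ∨ orderOf g = 7 ∨ orderOf g = 11 ∨ orderOf g = 15 ∨
      orderOf g = 21 ∨ orderOf g = 23 := by
  have ox : orderOf (K.e px) = 23 := Pk.order (i := 0) (by norm_num) hx (by decide +kernel) (by norm_num) (by decide +kernel)
  have oy : orderOf (K.e py) = 11 := Pk.order (i := 1) (by norm_num) hy (by decide +kernel) (by norm_num) (by decide +kernel)
  have ob : orderOf (K.e pb5) = 5 := Pk.order (i := 1) (by norm_num) hb (by decide +kernel) (by norm_num) (by decide +kernel)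
  have n23 : ¬ 23 ^ 2 ∣ Nat.card T := fun h => by have := h.trans hT; norm_num at this
  have n11 : ¬ 11 ^ 2 ∣ Nat.card T := fun h => by have := h.trans hT; norm_num at this
  have n5 : ¬ 5 ^ 2 ∣ Nat.card T := fun h => by have := h.trans hT; norm_num at this
  have fx := fix_x
  have fy := fix_y
  have fb := fix_b
  refine order_cases ((orderOf_dvd_natCard g).trans hT) h2 (h9 g) ?_ ?_ ?_ ?_ ?_ ?_ ?_ ?_
  · exact Pk.no_pair (by norm_num) (by norm_num) (by norm_num) n23 hx ox (by norm_num) (by omega) g
  · exact Pk.no_pair (by norm_num) (by norm_num) (by norm_num) n23 hx ox (by norm_num) (by omega) g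
  · exact Pk.no_pair (by norm_num) (by norm_num) (by norm_num) n23 hx ox (by norm_num) (by omega) g
  · exact Pk.no_pair (by norm_num) (by norm_num) (by norm_num) n23 hx ox (by norm_num) (by omega) g
  · exact Pk.no_pair (by norm_num) (by norm_num) (by norm_num) n11 hy oy (by norm_num) (by omega) g
  · exact Pk.no_pair (by norm_num) (by norm_num) (by norm_num) n11 hy oy (by norm_num) (by omega) g
  · exact Pk.no_pair (by norm_num) (by norm_num) (by norm_num) n11 hy oy (by norm_num) (by omega) g
  · exact Pk.no_pair (by norm_num) (by norm_num) (by norm_num) n5 hb ob (by norm_num) (by omega) g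

theorem chk24 : chk (pk24.okT) l27 = true := by
  change chk ok l27 = true
  decide +kernel

theorem nd27 : l27.Nodup := by decide +kernel
theorem dist27 : ∀ P ∈ l27, ∀ Q ∈ l27, papp P 0 = papp Q 0 → papp P 1 = papp Q 1 → P = Q := by decide +kernel
theorem len27 : l27.length = 27 := by decide +kernel

theorem inv27 : ∀ P ∈ l27, ∃ C ∈ lc, pcomp C P = pcomp (pcomp P P) C := by decide +kernel
theorem oklc : ∀ C ∈ lc, ok C = true := by decide +kernel

theorem sq_of_prime {T : Type*} [Group T] [Finite T] {K : Pk T} {r i A D : ℕ} (hr : r.Prime)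
    (hr2 : ¬ r ^ 2 ∣ Nat.card T) (hA : K.okT A = true) (hD : K.okT D = true) (h : ppow A r = idP) (hi : i < 24)
    (h' : papp A i ≠ i) (hD' : pcomp D A = pcomp (pcomp A A) D) {g : T} (hg : orderOf g = r) : SqC g := by
  have : Fact r.Prime := ⟨hr⟩
  exact of_prime hr2 (Pk.order hr hA h hi h') ⟨K.e D, Pk.sq hA hD hD'⟩ hg

theorem m24_odd (g : M24) (h2 : ¬ 2 ∣ orderOf g) : SqC g := by
  have h9 : ∀ g : M24, ¬ 9 ∣ orderOf g := Pk.no_nine (K := pk24) (a := 3) (m := 9067520) chk24 nd27 (i := 0) (j := 1)
    (by norm_num) (by norm_num) dist27 (by rw [card24, len27]) (by norm_num) (by rw [len27]; norm_num)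
  have n (r : ℕ) (h : ¬ r ^ 2 ∣ 244823040) : ¬ r ^ 2 ∣ Nat.card M24 := sq_ndvd card24 h
  have o5 : orderOf (pk24.e pb5) = 5 := Pk.order (i := 1) (by norm_num) (by change ok pb5 = true; decide +kernel)
    (by decide +kernel) (by norm_num) (by decide +kernel)
  have o7 : orderOf (pk24.e pb7) = 7 := Pk.order (i := 0) (by norm_num) (by change ok pb7 = true; decide +kernel)
    (by decide +kernel) (by norm_num) (by decide +kernel)
  rcases orders (K := pk24) (by rw [card24]) (by change ok px = true; decide +kernel)
    (by change ok py = true; decide +kernel) (by change ok pb5 = true; decide +kernel) h9 g h2 with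
    h | h | h | h | h | h | h | h
  · rw [orderOf_eq_one_iff] at h
    rw [h]; exact SqC.one
  · obtain ⟨t, P, hP, ht⟩ := Pk.exists_conj3 (K := pk24) (a := 3) (m := 9067520) chk24 nd27 (i := 0) (j := 1)
      (by norm_num) (by norm_num) dist27 (by rw [card24, len27]) (by norm_num) (by rw [len27]; norm_num)
      (g := g) (k := 1) (by rw [h]; norm_num)
    obtain ⟨C, hC, hCP⟩ := inv27 P hP
    apply SqC.of_conj (t := t)
    rw [ht]
    exact ⟨pk24.e C, Pk.sq (chk_ok chk24 hP) (oklc C hC) hCP⟩
  · exact sq_of_prime (K := pk24) (A := pb5) (D := pd5) (i := 1) (by norm_num) (n 5 (by norm_num))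
      (by change ok pb5 = true; decide +kernel) (by change ok pd5 = true; decide +kernel) (by decide +kernel)
      (by norm_num) (by decide +kernel) (by decide +kernel) h
  · exact sq_of_prime (K := pk24) (A := pb7) (D := pc7) (i := 0) (by norm_num) (n 7 (by norm_num))
      (by change ok pb7 = true; decide +kernel) (by change ok pc7 = true; decide +kernel) (by decide +kernel)
      (by norm_num) (by decide +kernel) (by decide +kernel) h
  · exact sq_of_prime (K := pk24) (A := py) (D := pc11) (i := 1) (by norm_num) (n 11 (by norm_num))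
      (by change ok py = true; decide +kernel) (by change ok pc11 = true; decide +kernel) (by decide +kernel)
      (by norm_num) (by decide +kernel) (by decide +kernel) h
  · have : Fact (Nat.Prime 5) := ⟨by norm_num⟩
    refine of_three_mul (r := 5) (b := pk24.e pb5) (s := pk24.e ps5) (d := pk24.e pd5) (by norm_num)
      (n 5 (by norm_num)) o5 ?_ ?_ ?_ ?_ ?_ (by rw [h])
    · exact Pk.order (i := 0) (by norm_num) (by change ok ps5 = true; decide +kernel) (by decide +kernel) (by norm_num)
        (by decide +kernel)
    · exact Pk.mul_eq (by change ok pb5 = true; decide +kernel) (by change ok ps5 = true; decide +kernel)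
        (by change ok ps5 = true; decide +kernel) (by change ok pb5 = true; decide +kernel) (by decide +kernel)
    · exact Pk.sq (by change ok pb5 = true; decide +kernel) (by change ok pd5 = true; decide +kernel) (by decide +kernel)
    · exact Pk.sq (by change ok ps5 = true; decide +kernel) (by change ok pd5 = true; decide +kernel) (by decide +kernel)
    · intro h'
      exact nine_five (h'.trans (card_cent_dvd (by norm_num) (n 5 (by norm_num)) (MonoidHom.id _)
        Function.injective_id o5 H858.M24Norm.orderOf_q))
  · have : Fact (Nat.Prime 7) := ⟨by norm_num⟩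
    refine of_three_mul (r := 7) (b := pk24.e pb7) (s := pk24.e ps7) (d := pk24.e pd7) (by norm_num)
      (n 7 (by norm_num)) o7 ?_ ?_ ?_ ?_ ?_ (by rw [h])
    · exact Pk.order (i := 0) (by norm_num) (by change ok ps7 = true; decide +kernel) (by decide +kernel) (by norm_num)
        (by decide +kernel)
    · exact Pk.mul_eq (by change ok pb7 = true; decide +kernel) (by change ok ps7 = true; decide +kernel)
        (by change ok ps7 = true; decide +kernel) (by change ok pb7 = true; decide +kernel) (by decide +kernel)
    · exact Pk.sq (by change ok pb7 = true; decide +kernel) (by change ok pd7 = true; decide +kernel) (by decide +kernel)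
    · exact Pk.sq (by change ok ps7 = true; decide +kernel) (by change ok pd7 = true; decide +kernel) (by decide +kernel)
    · intro h'
      exact nine_seven (h'.trans (card_cent_dvd (by norm_num) (n 7 (by norm_num)) (MonoidHom.id _)
        Function.injective_id o7 H858.M24Norm.orderOf_s))
  · exact sq_of_prime (K := pk24) (A := px) (D := py) (i := 0) (by norm_num) (n 23 (by norm_num))
      (by change ok px = true; decide +kernel) (by change ok py = true; decide +kernel) (by decide +kernel)
      (by norm_num) (by decide +kernel) (by decide +kernel) h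

/-! ### `M23` -/

theorem card23 : Nat.card Spor.M23 = 10200960 := SporadicA.MathieuRecog.card_M23

instance finite23 : Finite Spor.M23 := Nat.finite_of_card_ne_zero (by rw [card23]; norm_num)

theorem okT23 {P : ℕ} (h : (ok P && Nat.beq (papp P 23) 23) = true) : pk23.okT P = true := h

theorem chk23 : chk (pk23.okT) l9 = true := by
  change chk (fun P => ok P && Nat.beq (papp P 23) 23) l9 = true
  decide +kernel

theorem nd9 : l9.Nodup := by decide +kernel
theorem dist9 : ∀ P ∈ l9, ∀ Q ∈ l9, papp P 0 = papp Q 0 → papp P 1 = papp Q 1 → P = Q := by decide +kernel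
theorem len9 : l9.length = 9 := by decide +kernel
theorem inv9 : ∀ P ∈ l9, pcomp pt9 P = pcomp (pcomp P P) pt9 := by decide +kernel

/-- the fixed points of the elements of `l9` -/
theorem fix9 : ∀ P ∈ l9, P ≠ idP → ((List.range 24).filter fun i => papp P i = i).length = 6 := by decide +kernel

theorem exists_conj9 {g : Spor.M23} {k : ℕ} (hg : orderOf g = 3 ^ k) :
    ∃ (t : Spor.M23) (P : ℕ), P ∈ l9 ∧ t * g * t⁻¹ = pk23.e P :=
  Pk.exists_conj3 (K := pk23) (a := 2) (m := 1133440) chk23 nd9 (i := 0) (j := 1)
      (by norm_num) (by norm_num) dist9 (by rw [card23, len9]) (by norm_num) (by rw [len9]; norm_num) hg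

/-- the fixed points of an element of order 3 of `M23` -/
theorem fix_three {g : Spor.M23} (hg : orderOf g = 3) :
    (Finset.univ.filter fun a : GolayPt => (g : Equiv.Perm GolayPt) a = a).card = 6 := by
  obtain ⟨t, P, hP, ht⟩ := exists_conj9 (g := g) (k := 1) (by rw [hg]; norm_num)
  have hok : ok P = true := pk23.okT_ok _ (chk_ok chk23 hP)
  have hne : P ≠ idP := by
    rintro rfl
    have h1 : pk23.e idP = 1 := pk23.inj (by rw [map_one, pk23.φ_e _ (chk_ok chk23 hP), el_idP])
    rw [h1] at ht
    have h2 : g = 1 := by
      have : g = t⁻¹ * (t * g * t⁻¹) * t := by group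
      rw [this, ht]; group
    rw [h2, orderOf_one] at hg
    norm_num at hg
  have h6 := fix9 P hP hne
  have hP' : ((t * g * t⁻¹ : Spor.M23) : Equiv.Perm GolayPt) = (el P : Equiv.Perm GolayPt) := by
    rw [ht]
    exact congrArg Subtype.val (pk23.φ_e _ (chk_ok chk23 hP))
  rw [← h6, ← List.toFinset_card_of_nodup (List.Nodup.filter _ List.nodup_range)]
  refine Finset.card_bij (fun a _ => idx ((t : Equiv.Perm GolayPt) a)) ?_ ?_ ?_
  · intro a ha
    rw [Finset.mem_filter] at ha
    rw [List.mem_toFinset, List.mem_filter, List.mem_range]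
    refine ⟨idx_lt _, ?_⟩
    rw [decide_eq_true_iff]
    have h3 := idx_el_smul hok ((t : Equiv.Perm GolayPt) a)
    rw [← h3]
    congr 1
    change (el P : Equiv.Perm GolayPt) ((t : Equiv.Perm GolayPt) a) = _
    rw [← hP']
    change (t : Equiv.Perm GolayPt) ((g : Equiv.Perm GolayPt) (((t : Equiv.Perm GolayPt))⁻¹ ((t : Equiv.Perm GolayPt) a))) = _
    rw [show (t : Equiv.Perm GolayPt)⁻¹ ((t : Equiv.Perm GolayPt) a) = a from Equiv.symm_apply_apply _ _, ha.2]
  · intro a _ b _ h
    exact (t : Equiv.Perm GolayPt).injective (idx_injective h)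
  · intro i hi
    rw [List.mem_toFinset, List.mem_filter, List.mem_range, decide_eq_true_iff] at hi
    refine ⟨((t : Equiv.Perm GolayPt))⁻¹ (pt i), ?_, ?_⟩
    · rw [Finset.mem_filter]
      refine ⟨Finset.mem_univ _, ?_⟩
      apply (t : Equiv.Perm GolayPt).injective
      rw [show (t : Equiv.Perm GolayPt) ((t : Equiv.Perm GolayPt)⁻¹ (pt i)) = pt i from Equiv.apply_symm_apply _ _]
      have h4 : ((t * g * t⁻¹ : Spor.M23) : Equiv.Perm GolayPt) (pt i) = pt i := by
        rw [hP']
        change el P • pt i = pt i
        rw [el_smul_pt hok, idx_pt hi.1, hi.2]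
      exact h4
    · change idx ((t : Equiv.Perm GolayPt) (((t : Equiv.Perm GolayPt))⁻¹ (pt i))) = i
      rw [show (t : Equiv.Perm GolayPt) ((t : Equiv.Perm GolayPt)⁻¹ (pt i)) = pt i from Equiv.apply_symm_apply _ _,
        idx_pt hi.1]

theorem fix_b7 : (Finset.univ.filter fun a : GolayPt => (el pb7 : Equiv.Perm GolayPt) a = a).card < 6 := by
  rw [coe_el (by decide +kernel : ok pb7 = true)]
  decide +kernel

/-- no element of order 21 -/
theorem no21 (g : Spor.M23) : orderOf g ≠ 21 := by
  intro h
  have : Fact (Nat.Prime 7) := ⟨by norm_num⟩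
  have hb : orderOf (pk23.e pb7) = 7 := Pk.order (i := 0) (by norm_num) (okT23 (by decide +kernel))
    (by decide +kernel) (by norm_num) (by decide +kernel)
  have hh : orderOf (g ^ 3) = 7 := by rw [orderOf_pow, h]; norm_num
  have hu : orderOf (g ^ 7) = 3 := by rw [orderOf_pow, h]; norm_num
  obtain ⟨t, k, ht⟩ := exists_conj_pow (sq_ndvd card23 (by norm_num)) hh hb
  have hk : (pk23.e pb7) ^ k ≠ 1 := by
    intro h1
    rw [h1] at ht
    have h2 : g ^ 3 = 1 := by
      have : g ^ 3 = t⁻¹ * (t * g ^ 3 * t⁻¹) * t := by group
      rw [this, ht]; group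
    rw [h2, orderOf_one] at hh
    norm_num at hh
  set s := t * g ^ 7 * t⁻¹ with hs
  have h3 : s * pk23.e pb7 = pk23.e pb7 * s := by
    apply comm_of_pow hb hk
    rw [← ht]
    calc t * g ^ 7 * t⁻¹ * (t * g ^ 3 * t⁻¹) = t * (g ^ 7 * g ^ 3) * t⁻¹ := by group
      _ = t * (g ^ 3 * g ^ 7) * t⁻¹ := by rw [← pow_add, ← pow_add]
      _ = t * g ^ 3 * t⁻¹ * (t * g ^ 7 * t⁻¹) := by group
  have hos : orderOf s = 3 := by
    have h5 : orderOf (MulAut.conj t (g ^ 7)) = orderOf (g ^ 7) := orderOf_injective (MulAut.conj t).toMonoidHom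
      (MulAut.conj t).injective _
    rw [MulAut.conj_apply] at h5
    rw [hs, h5, hu]
  have h6 := fix_three hos
  have hB : ((pk23.e pb7 : Spor.M23) : Equiv.Perm GolayPt) = (el pb7 : Equiv.Perm GolayPt) :=
    congrArg Subtype.val (pk23.φ_e pb7 (okT23 (by decide +kernel)))
  have h7 : (el pb7 : Equiv.Perm GolayPt) ^ 7 = 1 := by
    rw [← hB, ← Subgroup.coe_pow, ← hb, pow_orderOf_eq_one, Subgroup.coe_one]
  have h8 : ∀ a, (s : Equiv.Perm GolayPt) ((el pb7 : Equiv.Perm GolayPt) a) =
      (el pb7 : Equiv.Perm GolayPt) ((s : Equiv.Perm GolayPt) a) := by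
    intro a
    rw [← hB]
    exact congrArg (fun f : Spor.M23 => (f : Equiv.Perm GolayPt) a) h3
  have h9 := card_modEq (α := GolayPt) h7 {a | (s : Equiv.Perm GolayPt) a = a} (by
    intro a ha
    change (s : Equiv.Perm GolayPt) ((el pb7 : Equiv.Perm GolayPt) a) = (el pb7 : Equiv.Perm GolayPt) a
    rw [h8]
    exact congrArg _ ha)
  have h10 : Nat.card ({a | (s : Equiv.Perm GolayPt) a = a} : Set GolayPt) = 6 := by
    rw [← h6, ← Fintype.card_coe, ← Nat.card_eq_fintype_card]
    exact Nat.card_congr (Equiv.subtypeEquivRight fun a => by simp)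
  have h11 : Nat.card {a : GolayPt // a ∈ ({a | (s : Equiv.Perm GolayPt) a = a} : Set GolayPt) ∧
      (el pb7 : Equiv.Perm GolayPt) • a = a} < 6 := by
    refine lt_of_le_of_lt ?_ fix_b7
    rw [← Fintype.card_coe, ← Nat.card_eq_fintype_card]
    exact Nat.card_le_card_of_injective (fun a => ⟨a.1, by
        rw [Finset.mem_filter]
        exact ⟨Finset.mem_univ _, a.2.2⟩⟩) (fun a b h => by
          have h' := congrArg Subtype.val h
          exact Subtype.ext h')
  rw [h10] at h9
  unfold Nat.ModEq at h9
  omega

theorem m23_odd (g : Spor.M23) (h2 : ¬ 2 ∣ orderOf g) : SqC g ∨ orderOf g = 11 := by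
  have h9 : ∀ g : Spor.M23, ¬ 9 ∣ orderOf g := Pk.no_nine (K := pk23) (a := 2) (m := 1133440) chk23 nd9 (i := 0)
    (j := 1) (by norm_num) (by norm_num) dist9 (by rw [card23, len9]) (by norm_num) (by rw [len9]; norm_num)
  have n (r : ℕ) (h : ¬ r ^ 2 ∣ 10200960) : ¬ r ^ 2 ∣ Nat.card Spor.M23 := sq_ndvd card23 h
  have o5 : orderOf (pk23.e pb5) = 5 := Pk.order (i := 1) (by norm_num) (okT23 (by decide +kernel))
    (by decide +kernel) (by norm_num) (by decide +kernel)
  rcases orders (K := pk23) (by rw [card23]; norm_num) (okT23 (by decide +kernel))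
    (okT23 (by decide +kernel)) (okT23 (by decide +kernel)) h9 g h2 with
    h | h | h | h | h | h | h | h
  · rw [orderOf_eq_one_iff] at h
    rw [h]; exact Or.inl SqC.one
  · left
    obtain ⟨t, P, hP, ht⟩ := exists_conj9 (g := g) (k := 1) (by rw [h]; norm_num)
    apply SqC.of_conj (t := t)
    rw [ht]
    exact ⟨pk23.e pt9, Pk.sq (chk_ok chk23 hP) (okT23 (by decide +kernel)) (inv9 P hP)⟩
  · exact Or.inl (sq_of_prime (K := pk23) (A := pb5) (D := pd5) (i := 1) (by norm_num) (n 5 (by norm_num))
      (okT23 (by decide +kernel)) (okT23 (by decide +kernel)) (by decide +kernel)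
      (by norm_num) (by decide +kernel) (by decide +kernel) h)
  · exact Or.inl (sq_of_prime (K := pk23) (A := pb7) (D := pc7) (i := 0) (by norm_num) (n 7 (by norm_num))
      (okT23 (by decide +kernel)) (okT23 (by decide +kernel)) (by decide +kernel)
      (by norm_num) (by decide +kernel) (by decide +kernel) h)
  · exact Or.inr h
  · left
    have : Fact (Nat.Prime 5) := ⟨by norm_num⟩
    refine of_three_mul (r := 5) (b := pk23.e pb5) (s := pk23.e ps5) (d := pk23.e pd5) (by norm_num)
      (n 5 (by norm_num)) o5 ?_ ?_ ?_ ?_ ?_ (by rw [h])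
    · exact Pk.order (i := 0) (by norm_num) (okT23 (by decide +kernel)) (by decide +kernel) (by norm_num)
        (by decide +kernel)
    · exact Pk.mul_eq (okT23 (by decide +kernel)) (okT23 (by decide +kernel))
        (okT23 (by decide +kernel)) (okT23 (by decide +kernel)) (by decide +kernel)
    · exact Pk.sq (okT23 (by decide +kernel)) (okT23 (by decide +kernel)) (by decide +kernel)
    · exact Pk.sq (okT23 (by decide +kernel)) (okT23 (by decide +kernel)) (by decide +kernel)
    · intro h'
      exact nine_five (h'.trans (card_cent_dvd (by norm_num) (sq_ndvd card24 (by norm_num)) pk23.φ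
        pk23.inj o5 H858.M24Norm.orderOf_q))
  · exact absurd h (no21 g)
  · exact Or.inl (sq_of_prime (K := pk23) (A := px) (D := py) (i := 0) (by norm_num) (n 23 (by norm_num))
      (okT23 (by decide +kernel)) (okT23 (by decide +kernel)) (by decide +kernel)
      (by norm_num) (by decide +kernel) (by decide +kernel) h)

end Cfsg.Agent.H4.LDM.OddCls
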