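import Cfsg.Agent.H4.LDM.Stage
import Cfsg.Agent.H4.LDM.OddCls
import Cfsg.Agent.H4.LDM.M23El
import Cfsg.Agent.S2037
import Cfsg.Agent.S2038

/-!
# `M23` and `M24` in dimension at most twelve

* `m24_low` : `Core P`, `Soc P = M24`, `n ≤ 12` ⟹ `p = 2`, `n = 11`, `Fr P 2` and `|F| = 2`;
* `m23_low` : the same for `M23`.
-/

set_option autoImplicit false
set_option linter.unusedSectionVars false

namespace Cfsg.Agent.H4.LDM.Stage

open Cfsg Cfsg.Geo Matrix Cfsg.Agent.H915.LD Cfsg.Agent.H4.LDM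

universe u v w

variable {ι : Type} [Fintype ι] [DecidableEq ι] {F : Type u} [Field F] {P : Subgroup (GL ι F)}

/-- a trivial multiplier gives an isomorphism with `P` -/
theorem exists_equiv {T : Type v} [Group T] (hC : Core P) (e : Soc P ≃* T) (hA : HasCyclicSchurMultiplier T 1) :
    Nonempty (P ≃* T) := by
  obtain ⟨e', -⟩ := hC.equiv_of_coprime e hA (by simp [Nat.card_zmod])
  exact ⟨e'⟩

theorem scalars_one {T : Type v} [Group T] (hC : Core P) (e : Soc P ≃* T) (hA : HasCyclicSchurMultiplier T 1) :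
    Nat.card ((scalars ι F).subgroupOf P) = 1 := by
  rw [hC.scalars_eq_bot e hA (by simp [Nat.card_zmod]), Subgroup.card_bot]

/-- bounds -/
theorem bound {T : Type v} [Group T] (hC : Core P) (e : Soc P ≃* T) (hA : HasCyclicSchurMultiplier T 1) {r m : ℕ}
    (hr : r.Prime) (hrF : (r : F) ≠ 0) (h : H921.Spor.Conf r m T) : m ≤ Fintype.card ι := by
  apply h.bd hr hrF
  apply pr_of_core hC e
  rw [scalars_one hC e hA]
  exact Nat.coprime_one_left r

theorem ne_zero_of_ne {p r : ℕ} (hr : r.Prime) (hp : p.Prime) [CharP F p] (h : p ≠ r) : (r : F) ≠ 0 := by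
  intro h0
  rw [CharP.cast_eq_zero_iff F p] at h0
  exact h ((Nat.prime_dvd_prime_iff_eq hp hr).1 h0)

section
variable [Fintype F]

/-- traces of elements of `P` conjugate to their squares -/
theorem tr_sq {T : Type v} [Group T] (e : P ≃* T) {g : P} (h : Cls.SqC (e g)) [CharP F 2] :
    tr (g : GL ι F) ^ 2 = tr (g : GL ι F) := by
  have : Fact (Nat.Prime 2) := ⟨Nat.prime_two⟩
  obtain ⟨c, hc⟩ := h
  have h1 : (e.symm c) * g * (e.symm c)⁻¹ = g ^ 2 := by
    apply e.injective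
    rw [map_mul, map_mul, map_inv, map_pow, e.apply_symm_apply, hc]
  have h2 : tr ((g : GL ι F) ^ 2) = tr (g : GL ι F) := by
    rw [← Subgroup.coe_pow, ← h1, Subgroup.coe_mul, Subgroup.coe_mul, Subgroup.coe_inv, tr_conj]
  have h3 := tr_pow_char (F := F) 2 (g : GL ι F) 1
  rw [pow_one, h2] at h3
  exact h3.symm

theorem card_of_fr (hC : Core P) [CharP F 2] (h : Fr P 2) : Fintype.card F = 2 := by
  have : Fact (Nat.Prime 2) := ⟨Nat.prime_two⟩
  exact hC.card_eq 2 h

theorem Pair.of_mul {T : Type v} [Group T] (e : P ≃* T) {x y : T} (hx : x ^ 23 = 1) (hx1 : x ≠ 1) (hy : y ^ 11 = 1)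
    (hyx : y * x = x ^ 2 * y) : Pair (e.symm x : GL ι F) (e.symm y : GL ι F) := by
  refine ⟨?_, ?_, ?_, ?_⟩
  · rw [← Subgroup.coe_pow, ← map_pow, hx, map_one, Subgroup.coe_one]
  · intro h
    apply hx1
    have h1 : e.symm x = 1 := Subtype.ext h
    rw [← e.apply_symm_apply x, h1, map_one]
  · rw [← Subgroup.coe_pow, ← map_pow, hy, map_one, Subgroup.coe_one]
  · rw [← Subgroup.coe_mul, ← map_mul, hyx, map_mul, map_pow, Subgroup.coe_mul, Subgroup.coe_pow]

/-- the end of the proof: over the field with two elements the dimension is 11 -/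
theorem dim_eleven {T : Type v} [Group T] (hC : Core P) [CharP F 2] (e : P ≃* T) (hT : Nat.card T ∣ 244823040)
    {x y : T} (hx : x ^ 23 = 1) (hx1 : x ≠ 1) (hy : y ^ 11 = 1) (hy1 : y ≠ 1) (hyx : y * x = x ^ 2 * y)
    (hF : Fintype.card F = 2) (hn : Fintype.card ι ≤ 12) : Fintype.card ι = 11 := by
  have hp := Pair.of_mul e hx hx1 hy hyx
  have h1 := hp.dim (Or.inl hF) hn
  by_contra h2
  have h3 : Fintype.card ι = 12 := by omega
  refine hp.twelve ?_ hF h3 hC.absIrred.1 (e.symm x).2 (e.symm y).2 ?_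
  · intro h
    apply hy1
    have h1 : e.symm y = 1 := Subtype.ext h
    rw [← e.apply_symm_apply y, h1, map_one]
  · rw [Nat.card_congr e.toEquiv]; exact hT

open M23El in
theorem mx_pow : (⟨X, H921.Spor.M24.M23_le X_mem⟩ : M24) ^ 23 = 1 := Subtype.ext x_pow
open M23El in
theorem my_pow : (⟨Y, H921.Spor.M24.M23_le Y_mem⟩ : M24) ^ 11 = 1 := Subtype.ext y_pow

theorem gy_ne : M23El.gy ≠ 1 := by
  intro h
  have h1 : M23El.Y = 1 := congrArg Subtype.val h
  have h2 := DFunLike.congr_fun h1 (some 1)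
  revert h2
  decide +kernel

/-- **`M24` in dimension at most twelve** -/
theorem m24_low (hC : Core P) (e : Soc P ≃* M24) (p : ℕ) [hp : Fact p.Prime] [CharP F p] (hn : Fintype.card ι ≤ 12) :
    p = 2 ∧ Fintype.card ι = 11 ∧ Fr P 2 ∧ Fintype.card F = 2 := by
  have h2 : p = 2 := by
    by_contra h
    have := bound hC e S2038.result Nat.prime_two (ne_zero_of_ne Nat.prime_two hp.out h) H921.Spor.M24.M24_two
    omega
  subst h2
  obtain ⟨e'⟩ := exists_equiv hC e S2038.result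
  have hFr : Fr P 2 := by
    apply Fr.of_reg' 2
    intro g hg h2
    refine tr_sq e' (g := ⟨g, hg⟩) (OddCls.m24_odd _ ?_)
    rw [MulEquiv.orderOf_eq]
    rw [← Subgroup.orderOf_coe]
    exact h2
  have hF := card_of_fr hC hFr
  refine ⟨rfl, ?_, hFr, hF⟩
  exact dim_eleven hC e' (x := Subgroup.inclusion H921.Spor.M24.M23_le M23El.gx)
    (y := Subgroup.inclusion H921.Spor.M24.M23_le M23El.gy) (by rw [OddCls.card24])
    (by rw [← map_pow, M23El.gx_pow, map_one])
    (fun h => M23El.gx_ne (Subgroup.inclusion_injective H921.Spor.M24.M23_le (h.trans (map_one _).symm)))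
    (by rw [← map_pow, M23El.gy_pow, map_one])
    (fun h => gy_ne (Subgroup.inclusion_injective H921.Spor.M24.M23_le (h.trans (map_one _).symm)))
    (by rw [← map_mul, M23El.gy_gx, map_mul, map_pow]) hF hn

/-- **`M23` in dimension at most twelve** -/
theorem m23_low (hC : Core P) (e : Soc P ≃* Spor.M23) (p : ℕ) [hp : Fact p.Prime] [CharP F p]
    (hn : Fintype.card ι ≤ 12) : p = 2 ∧ Fintype.card ι = 11 ∧ Fr P 2 ∧ Fintype.card F = 2 := by
  have h2 : p = 2 := by
    by_contra h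
    have := bound hC e S2037.result Nat.prime_two (ne_zero_of_ne Nat.prime_two hp.out h) H921.Spor.M24.M23_two
    omega
  subst h2
  obtain ⟨e'⟩ := exists_equiv hC e S2037.result
  have : Fact (Nat.Prime 11) := ⟨by norm_num⟩
  have ogy : orderOf M23El.gy = 11 := orderOf_eq_prime M23El.gy_pow gy_ne
  have h112 : ¬ 11 ^ 2 ∣ Nat.card Spor.M23 := by rw [OddCls.card23]; norm_num
  -- the elements of order 11
  have hc : ∃ c : Spor.M23, c * M23El.gy * c⁻¹ = M23El.gy ^ 4 := by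
    refine ⟨M23El.gf ^ 4, ?_⟩
    have h1 : M23El.gf * M23El.gy * M23El.gf⁻¹ = M23El.gy ^ 3 := by
      rw [M23El.gf_gy, mul_inv_cancel_right]
    have h3 : ∀ k : ℕ, M23El.gf * M23El.gy ^ k * M23El.gf⁻¹ = M23El.gy ^ (3 * k) := by
      intro k
      rw [← conj_pow, h1, ← pow_mul]
    have h4 : ∀ j : ℕ, M23El.gf ^ j * M23El.gy * (M23El.gf ^ j)⁻¹ = M23El.gy ^ (3 ^ j) := by
      intro j
      induction j with
      | zero => simp
      | succ j ih =>
        calc M23El.gf ^ (j + 1) * M23El.gy * (M23El.gf ^ (j + 1))⁻¹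
            = M23El.gf * (M23El.gf ^ j * M23El.gy * (M23El.gf ^ j)⁻¹) * M23El.gf⁻¹ := by rw [pow_succ']; group
          _ = M23El.gy ^ (3 ^ (j + 1)) := by rw [ih, h3, pow_succ']
    rw [h4, show 3 ^ 4 = 11 * 7 + 4 by norm_num, pow_add, pow_mul, M23El.gy_pow, one_pow, one_mul]
  have hFr4 : Fr P (2 ^ 2) := by
    apply Fr.of_reg 2
    intro g hg h2
    rcases OddCls.m23_odd (e' ⟨g, hg⟩) (by
      rw [MulEquiv.orderOf_eq, ← Subgroup.orderOf_coe]
      exact h2) with h | h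
    · have h3 := tr_sq e' (g := ⟨g, hg⟩) h
      change tr g ^ 2 = tr g at h3
      rw [show 2 ^ 2 = 2 * 2 by norm_num, pow_mul, h3, h3]
    · obtain ⟨t, k, ht⟩ := exists_conj_pow h112 h ogy
      obtain ⟨c, hc⟩ := hc
      -- `g ^ 4` is conjugate to `g`
      have h3 : ∃ d : Spor.M23, d * e' ⟨g, hg⟩ * d⁻¹ = e' ⟨g, hg⟩ ^ 4 := by
        refine ⟨t⁻¹ * c * t, ?_⟩
        have h4 : e' ⟨g, hg⟩ = t⁻¹ * M23El.gy ^ k * t := by rw [← ht]; group
        have h5 : c * M23El.gy ^ k * c⁻¹ = (M23El.gy ^ k) ^ 4 := by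
          rw [← conj_pow, hc, ← pow_mul, ← pow_mul, mul_comm]
        calc t⁻¹ * c * t * e' ⟨g, hg⟩ * (t⁻¹ * c * t)⁻¹ = t⁻¹ * (c * (t * e' ⟨g, hg⟩ * t⁻¹) * c⁻¹) * t := by group
          _ = t⁻¹ * (M23El.gy ^ k) ^ 4 * t := by rw [ht, h5]
          _ = e' ⟨g, hg⟩ ^ 4 := by
            rw [h4, show t⁻¹ * M23El.gy ^ k * t = t⁻¹ * M23El.gy ^ k * (t⁻¹)⁻¹ by rw [inv_inv], conj_pow, inv_inv]
      obtain ⟨d, hd⟩ := h3
      have h6 : (e'.symm d) * ⟨g, hg⟩ * (e'.symm d)⁻¹ = (⟨g, hg⟩ : P) ^ 4 := by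
        apply e'.injective
        rw [map_mul, map_mul, map_inv, map_pow, e'.apply_symm_apply, hd]
      have h7 : tr (g ^ 4) = tr g := by
        have h8 : ((e'.symm d : P) : GL ι F) * g * ((e'.symm d : P) : GL ι F)⁻¹ = g ^ 4 := congrArg Subtype.val h6
        rw [← h8, tr_conj]
      have h9 := tr_pow_char (F := F) 2 g 2
      rw [show 2 ^ 2 = 4 by norm_num] at h9 ⊢
      rw [← h9, h7]
  have hF4 : Fintype.card F = 2 ∨ Fintype.card F = 4 := by
    have h1 := hC.card_le 2 (k := 2) (by norm_num) hFr4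
    obtain ⟨n, hp, hn⟩ := FiniteField.card F 2
    rw [hn] at h1 ⊢
    have h3 : (n : ℕ) ≤ 2 := (Nat.pow_le_pow_iff_right (by norm_num)).1 h1
    have h4 : 0 < (n : ℕ) := n.pos
    interval_cases (n : ℕ) <;> simp
  have hpair := Pair.of_mul e' M23El.gx_pow M23El.gx_ne M23El.gy_pow M23El.gy_gx
  have htr := hpair.trace hF4 hn
  have hFr : Fr P 2 := by
    apply Fr.of_reg' 2
    intro g hg h2
    rcases OddCls.m23_odd (e' ⟨g, hg⟩) (by
      rw [MulEquiv.orderOf_eq, ← Subgroup.orderOf_coe]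
      exact h2) with h | h
    · exact tr_sq e' (g := ⟨g, hg⟩) h
    · obtain ⟨t, k, ht⟩ := exists_conj_pow h112 h ogy
      -- `k` is a power of two modulo 11
      have hk : ∃ j : ℕ, M23El.gy ^ k = M23El.gy ^ (2 ^ j) := by
        have h3 : M23El.gy ^ k = M23El.gy ^ (k % 11) := by rw [← ogy, pow_mod_orderOf]
        have h4 : k % 11 ≠ 0 := by
          intro h4
          rw [h3, h4, pow_zero] at ht
          have h5 : e' ⟨g, hg⟩ = 1 := by
            have : e' ⟨g, hg⟩ = t⁻¹ * (t * e' ⟨g, hg⟩ * t⁻¹) * t := by group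
            rw [this, ht]; group
          rw [h5, orderOf_one] at h
          norm_num at h
        have h5 : ∀ a < 11, a ≠ 0 → ∃ j < 10, 2 ^ j % 11 = a := by decide +kernel
        obtain ⟨j, -, hj⟩ := h5 (k % 11) (Nat.mod_lt _ (by norm_num)) h4
        refine ⟨j, ?_⟩
        rw [h3, ← hj]
        conv_rhs => rw [← pow_mod_orderOf, ogy]
      obtain ⟨j, hj⟩ := hk
      have h3 : (e'.symm t) * ⟨g, hg⟩ * (e'.symm t)⁻¹ = (e'.symm M23El.gy) ^ (2 ^ j) := by
        apply e'.injective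
        rw [map_mul, map_mul, map_inv, map_pow, e'.apply_symm_apply, e'.apply_symm_apply, ht, hj]
      have h4 : tr g = tr ((e'.symm M23El.gy : P) : GL ι F) ^ 2 ^ j := by
        have h8 : ((e'.symm t : P) : GL ι F) * g * ((e'.symm t : P) : GL ι F)⁻¹ =
          ((e'.symm M23El.gy : P) : GL ι F) ^ 2 ^ j := congrArg Subtype.val h3
        rw [← tr_pow_char (F := F) 2, ← h8, tr_conj]
      have h5 : ∀ j : ℕ, tr ((e'.symm M23El.gy : P) : GL ι F) ^ 2 ^ j = tr ((e'.symm M23El.gy : P) : GL ι F) := by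
        intro j
        induction j with
        | zero => simp
        | succ j ih => rw [pow_succ, pow_mul, ih, htr]
      rw [h4, h5, htr]
  have hF := card_of_fr hC hFr
  refine ⟨rfl, ?_, hFr, hF⟩
  exact dim_eleven hC e' (by rw [OddCls.card23]; norm_num) M23El.gx_pow M23El.gx_ne M23El.gy_pow gy_ne
    M23El.gy_gx hF hn

end

end Cfsg.Agent.H4.LDM.Stage
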