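import Mathlib

/-!
# Linear algebra over the field with two elements, coded in natural numbers

* `lin cs a` : the sum (xor) of the columns `cs` at the bits of `a`; `vl us a` : the same for vectors `us`;
* `vl_lin` : an additive map with `L u_i = vl ws c_i` has `L (vl us a) = vl ws (lin cs a)`;
* `card_modEq` : fixed points of an element of prime order on an invariant set.
-/

set_option autoImplicit false

namespace Cfsg.Agent.H4.LDM

/-- the columns `cs` at the bits of `a` -/
def lin : List ℕ → ℕ → ℕ
  | [], _ => 0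
  | c :: cs, a => bif Nat.beq (a % 2) 1 then Nat.xor c (lin cs (a / 2)) else lin cs (a / 2)

theorem lin_nil (a : ℕ) : lin [] a = 0 := rfl

theorem lin_cons (c : ℕ) (cs : List ℕ) (a : ℕ) :
    lin (c :: cs) a = (if a % 2 = 1 then c else 0) ^^^ lin cs (a / 2) := by
  rw [lin]
  by_cases h : a % 2 = 1
  · rw [show Nat.beq (a % 2) 1 = true from by rw [h]; rfl, if_pos h]
    rfl
  · have h0 : a % 2 = 0 := by omega
    rw [show Nat.beq (a % 2) 1 = false from by rw [h0]; rfl, if_neg h]
    simp

/-- parity of a xor -/
theorem xor_mod (a b : ℕ) : (a ^^^ b) % 2 = 1 ↔ ¬ (a % 2 = 1 ↔ b % 2 = 1) := Nat.xor_mod_two_eq_one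

theorem ite_xor {a b c : ℕ} :
    (if (a ^^^ b) % 2 = 1 then c else 0) = (if a % 2 = 1 then c else 0) ^^^ (if b % 2 = 1 then c else 0) := by
  by_cases h1 : a % 2 = 1 <;> by_cases h2 : b % 2 = 1 <;>
    simp only [xor_mod, h1, h2, iff_true, iff_false, not_true_eq_false, not_false_eq_true, if_true, if_false,
      Nat.xor_self, Nat.xor_zero, Nat.zero_xor]

theorem lin_xor (cs : List ℕ) (a b : ℕ) : lin cs (a ^^^ b) = lin cs a ^^^ lin cs b := by
  induction cs generalizing a b with
  | nil => simp [lin_nil]
  | cons c cs ih =>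
    rw [lin_cons, lin_cons, lin_cons, Nat.xor_div_two, ih, ite_xor]
    ac_rfl

theorem lin_lt {n : ℕ} (cs : List ℕ) (h : ∀ c ∈ cs, c < 2 ^ n) (a : ℕ) : lin cs a < 2 ^ n := by
  induction cs generalizing a with
  | nil => rw [lin_nil]; positivity
  | cons c cs ih =>
    rw [lin_cons]
    apply Nat.xor_lt_two_pow
    · split_ifs
      · exact h c (by simp)
      · positivity
    · exact ih (fun c hc => h c (by simp [hc])) _

section vec

variable {V W : Type*} [AddCommGroup V] [AddCommGroup W]

/-- the vectors `us` at the bits of `a` -/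
def vl : List V → ℕ → V
  | [], _ => 0
  | u :: us, a => (if a % 2 = 1 then u else 0) + vl us (a / 2)

theorem vl_nil (a : ℕ) : vl ([] : List V) a = 0 := rfl

theorem vl_cons (u : V) (us : List V) (a : ℕ) :
    vl (u :: us) a = (if a % 2 = 1 then u else 0) + vl us (a / 2) := rfl

theorem vl_zero (us : List V) : vl us 0 = 0 := by
  induction us with
  | nil => rfl
  | cons u us ih => rw [vl_cons]; simp [ih]

theorem vl_xor (hV : ∀ v : V, v + v = 0) (us : List V) (a b : ℕ) : vl us (a ^^^ b) = vl us a + vl us b := by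
  induction us generalizing a b with
  | nil => simp [vl_nil]
  | cons u us ih =>
    rw [vl_cons, vl_cons, vl_cons, Nat.xor_div_two, ih]
    by_cases h1 : a % 2 = 1 <;> by_cases h2 : b % 2 = 1 <;> simp only [xor_mod, h1, h2, iff_true, iff_false,
      not_true_eq_false, not_false_eq_true, if_true, if_false, zero_add]
    · rw [show u + vl us (a / 2) + (u + vl us (b / 2)) = (u + u) + (vl us (a / 2) + vl us (b / 2)) by abel, hV,
        zero_add]
    · abel
    · abel

/-- an additive map in coordinates -/
theorem vl_lin (hW : ∀ v : W, v + v = 0) (L : V →+ W) {us : List V} {ws : List W} {cs : List ℕ}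
    (h : List.Forall₂ (fun u c => L u = vl ws c) us cs) (a : ℕ) : L (vl us a) = vl ws (lin cs a) := by
  induction h generalizing a with
  | nil => rw [vl_nil, lin_nil, map_zero, vl_zero]
  | @cons u c us cs h1 _ ih =>
    rw [vl_cons, lin_cons, map_add, ih, vl_xor hW]
    congr 1
    split_ifs
    · exact h1
    · rw [map_zero, vl_zero]

theorem vl_mem {U : AddSubgroup V} {us : List V} (h : ∀ u ∈ us, u ∈ U) (a : ℕ) : vl us a ∈ U := by
  induction us generalizing a with
  | nil => exact U.zero_mem
  | cons u us ih =>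
    rw [vl_cons]
    apply U.add_mem
    · split_ifs
      · exact h u (by simp)
      · exact U.zero_mem
    · exact ih (fun c hc => h c (by simp [hc])) _

end vec

/-! ### fixed points -/

section fix

variable {G : Type*} [Group G] {α : Type*} [MulAction G α]

/-- fixed points of an element of prime order on an invariant set -/
theorem card_modEq [Finite α] {x : G} {r : ℕ} [hr : Fact r.Prime] (hx : x ^ r = 1) (S : Set α)
    (hS : ∀ s ∈ S, x • s ∈ S) : Nat.card S ≡ Nat.card {s : α // s ∈ S ∧ x • s = s} [MOD r] := by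
  have hpow : ∀ (k : ℕ) (s : α), s ∈ S → x ^ k • s ∈ S := by
    intro k
    induction k with
    | zero => intro s hs; simpa using hs
    | succ k ih =>
      intro s hs
      rw [pow_succ', mul_smul]
      exact hS _ (ih s hs)
  have hfo : IsOfFinOrder x := isOfFinOrder_iff_pow_eq_one.2 ⟨r, hr.out.pos, hx⟩
  have hfin : Finite (Subgroup.zpowers x) := hfo.finite_zpowers
  let T : SubMulAction (Subgroup.zpowers x) α :=
    { carrier := S
      smul_mem' := by
        rintro ⟨g, hg⟩ s hs
        obtain ⟨k, rfl⟩ := (hfo.mem_powers_iff_mem_zpowers.2 hg)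
        exact hpow k s hs }
  have hp : IsPGroup r (Subgroup.zpowers x) := by
    apply IsPGroup.of_card (n := if orderOf x = 1 then 0 else 1)
    rw [Nat.card_zpowers]
    rcases (Nat.dvd_prime hr.out).1 (orderOf_dvd_of_pow_eq_one hx) with h | h
    · rw [h]; simp
    · rw [h, if_neg hr.out.one_lt.ne', pow_one]
  have h1 := hp.card_modEq_card_fixedPoints T
  have h2 : Nat.card T = Nat.card S := rfl
  have h3 : Nat.card (MulAction.fixedPoints (Subgroup.zpowers x) T) = Nat.card {s : α // s ∈ S ∧ x • s = s} := by
    apply Nat.card_congr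
    refine ⟨fun t => ⟨t.1.1, t.1.2, ?_⟩, fun s => ⟨⟨s.1, s.2.1⟩, ?_⟩, fun t => rfl, fun s => rfl⟩
    · have := t.2 ⟨x, Subgroup.mem_zpowers x⟩
      exact congrArg Subtype.val this
    · rintro ⟨g, hg⟩
      obtain ⟨k, rfl⟩ := (hfo.mem_powers_iff_mem_zpowers.2 hg)
      apply Subtype.ext
      show x ^ k • s.1 = s.1
      clear hg
      induction k with
      | zero => simp
      | succ k ih => rw [pow_succ, mul_smul, s.2.2, ih]
  rw [h2, h3] at h1
  exact h1

end fix

end Cfsg.Agent.H4.LDM
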