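import Cfsg.Agent.H4.LDM.Kill

/-!
# Elements conjugate to their squares

* `SqC g` : `g` is conjugate to `g²`;
* `of_prime`, `of_three_mul`, `exists_conj_mem` : reduction to explicit elements by Sylow's theorem;
* `comm_trivial` : commuting permutations of coprime orders of few points.
-/

set_option autoImplicit false

namespace Cfsg.Agent.H4.LDM.Cls

open Cfsg.Agent.H4.LDM

variable {T : Type*} [Group T]

/-- conjugate to the square -/
def SqC (g : T) : Prop := ∃ c : T, c * g * c⁻¹ = g ^ 2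

theorem SqC.of_conj {t g : T} (h : SqC (t * g * t⁻¹)) : SqC g := by
  obtain ⟨c, hc⟩ := h
  refine ⟨t⁻¹ * c * t, ?_⟩
  have h1 : c * (t * g * t⁻¹) * c⁻¹ = t * g ^ 2 * t⁻¹ := by rw [hc, conj_pow]
  calc t⁻¹ * c * t * g * (t⁻¹ * c * t)⁻¹ = t⁻¹ * (c * (t * g * t⁻¹) * c⁻¹) * t := by group
    _ = t⁻¹ * (t * g ^ 2 * t⁻¹) * t := by rw [h1]
    _ = g ^ 2 := by group

theorem SqC.pow {g : T} (h : SqC g) (k : ℕ) : SqC (g ^ k) := by
  obtain ⟨c, hc⟩ := h
  exact ⟨c, by rw [← conj_pow, hc, ← pow_mul, ← pow_mul, mul_comm]⟩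

theorem SqC.one : SqC (1 : T) := ⟨1, by simp⟩

theorem of_prime [Finite T] {r : ℕ} [hr : Fact r.Prime] (hr2 : ¬ r ^ 2 ∣ Nat.card T) {b g : T} (hb : orderOf b = r)
    (hc : SqC b) (hg : orderOf g = r) : SqC g := by
  obtain ⟨t, k, ht⟩ := exists_conj_pow hr2 hg hb
  exact SqC.of_conj (t := t) (by rw [ht]; exact hc.pow k)

/-- an element commuting with a non-trivial power of `b` commutes with `b` -/
theorem comm_of_pow {r : ℕ} [hr : Fact r.Prime] {b u : T} (hb : orderOf b = r) {k : ℕ} (hk : b ^ k ≠ 1)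
    (h : u * b ^ k = b ^ k * u) : u * b = b * u := by
  have hbr : b ^ r = 1 := by rw [← hb, pow_orderOf_eq_one]
  have hcop : Nat.Coprime k r := by
    rw [Nat.coprime_comm, Nat.Prime.coprime_iff_not_dvd hr.out]
    rintro ⟨m, rfl⟩
    exact hk (by rw [pow_mul, hbr, one_pow])
  obtain ⟨m, -, hm⟩ := Nat.exists_mul_mod_eq_one_of_coprime hcop hr.out.one_lt
  have h1 : b = (b ^ k) ^ m := by
    rw [← pow_mul]
    conv_rhs => rw [← Nat.div_add_mod (k * m) r, pow_add, pow_mul, hbr, one_pow, one_mul, hm, pow_one]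
  rw [h1]
  have h2 : Commute u (b ^ k) := h
  exact h2.pow_right m

/-- a pair of commuting elements of orders `r` and `3` -/
theorem exists_conj_pair [Finite T] {r : ℕ} [hr : Fact r.Prime] (hr2 : ¬ r ^ 2 ∣ Nat.card T) {b s h u : T}
    (hb : orderOf b = r) (hs : orderOf s = 3) (hbs : b * s = s * b)
    (h9 : ¬ 9 ∣ Nat.card (Subgroup.centralizer {b})) (hh : orderOf h = r) (hu : orderOf u = 3) (hhu : h * u = u * h) :
    ∃ (w : T) (k l : ℕ), w * h * w⁻¹ = b ^ k ∧ w * u * w⁻¹ = s ^ l := by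
  obtain ⟨t, k, ht⟩ := exists_conj_pow hr2 hh hb
  have hk : b ^ k ≠ 1 := by
    intro h1
    rw [h1] at ht
    have h2 : h = 1 := by
      have : h = t⁻¹ * (t * h * t⁻¹) * t := by group
      rw [this, ht]; group
    rw [h2, orderOf_one] at hh
    exact hr.out.one_lt.ne hh
  have h3 : (t * u * t⁻¹) * b = b * (t * u * t⁻¹) := by
    apply comm_of_pow hb hk
    rw [← ht]
    calc t * u * t⁻¹ * (t * h * t⁻¹) = t * (u * h) * t⁻¹ := by group
      _ = t * (h * u) * t⁻¹ := by rw [hhu]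
      _ = t * h * t⁻¹ * (t * u * t⁻¹) := by group
  have hmem : ∀ a : T, a * b = b * a → a ∈ Subgroup.centralizer {b} := by
    intro a ha
    rw [Subgroup.mem_centralizer_iff]
    rintro c rfl
    exact ha.symm
  have ho : orderOf (⟨t * u * t⁻¹, hmem _ h3⟩ : Subgroup.centralizer {b}) = 3 := by
    rw [← Subgroup.orderOf_coe]
    change orderOf (t * u * t⁻¹) = 3
    have h5 : orderOf (MulAut.conj t u) = orderOf u := orderOf_injective (MulAut.conj t).toMonoidHom
      (MulAut.conj t).injective u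
    rw [MulAut.conj_apply] at h5
    rw [h5, hu]
  have ho' : orderOf (⟨s, hmem _ hbs.symm⟩ : Subgroup.centralizer {b}) = 3 := by
    rw [← Subgroup.orderOf_coe]
    exact hs
  have : Fact (Nat.Prime 3) := ⟨Nat.prime_three⟩
  obtain ⟨v, l, hv⟩ := exists_conj_pow (r := 3) (by norm_num; exact h9) ho ho'
  have hv' : (v : T) * (t * u * t⁻¹) * (v : T)⁻¹ = s ^ l := congrArg Subtype.val hv
  have hvb : (v : T) * b = b * v := ((Subgroup.mem_centralizer_iff.1 v.2) b rfl).symm
  refine ⟨v * t, k, l, ?_, ?_⟩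
  · calc (v : T) * t * h * ((v : T) * t)⁻¹ = v * (t * h * t⁻¹) * (v : T)⁻¹ := by group
      _ = v * b ^ k * (v : T)⁻¹ := by rw [ht]
      _ = b ^ k := by
        have h6 : Commute (v : T) (b ^ k) := (show Commute (v : T) b from hvb).pow_right k
        rw [h6.eq, mul_inv_cancel_right]
  · calc (v : T) * t * u * ((v : T) * t)⁻¹ = v * (t * u * t⁻¹) * (v : T)⁻¹ := by group
      _ = s ^ l := hv'

theorem sq_swap (b : T) (k : ℕ) (i : ℤ) : ((b ^ 2) ^ k) ^ i = ((b ^ k) ^ i) ^ 2 := by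
  simp only [← zpow_natCast, ← zpow_mul]
  congr 1
  ring

theorem of_three_mul [Finite T] {r : ℕ} [hr : Fact r.Prime] (hr3 : r ≠ 3) (hr2 : ¬ r ^ 2 ∣ Nat.card T) {b s d g : T}
    (hb : orderOf b = r) (hs : orderOf s = 3) (hbs : b * s = s * b) (hd : d * b * d⁻¹ = b ^ 2)
    (hds : d * s * d⁻¹ = s ^ 2) (h9 : ¬ 9 ∣ Nat.card (Subgroup.centralizer {b})) (hg : orderOf g = 3 * r) :
    SqC g := by
  have hh : orderOf (g ^ 3) = r := by
    rw [orderOf_pow, hg, Nat.gcd_eq_right (dvd_mul_right 3 r), Nat.mul_div_cancel_left _ (by norm_num)]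
  have hu : orderOf (g ^ r) = 3 := by
    rw [orderOf_pow, hg, Nat.gcd_eq_right (dvd_mul_left r 3), Nat.mul_div_cancel _ hr.out.pos]
  obtain ⟨w, k, l, h1, h2⟩ := exists_conj_pair hr2 hb hs hbs h9 hh hu (by rw [← pow_add, ← pow_add, add_comm])
  have hcop : IsCoprime ((3 : ℕ) : ℤ) (r : ℤ) := by
    rw [Nat.isCoprime_iff_coprime, Nat.Prime.coprime_iff_not_dvd Nat.prime_three]
    intro h3
    exact hr3 ((Nat.prime_dvd_prime_iff_eq Nat.prime_three hr.out).1 h3).symm
  obtain ⟨i, j, hij⟩ := hcop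
  have h3 : g = (g ^ 3) ^ i * (g ^ r) ^ j := by
    rw [← zpow_natCast, ← zpow_natCast, ← zpow_mul, ← zpow_mul, ← zpow_add]
    have : ((3 : ℕ) : ℤ) * i + (r : ℤ) * j = 1 := by
      linear_combination hij
    rw [this, zpow_one]
  have h4 : w * g * w⁻¹ = (b ^ k) ^ i * (s ^ l) ^ j := by
    conv_lhs => rw [h3]
    rw [← h1, ← h2, conj_zpow, conj_zpow]
    group
  apply SqC.of_conj (t := w)
  rw [h4]
  refine ⟨d, ?_⟩
  have h5 : d * ((b ^ k) ^ i * (s ^ l) ^ j) * d⁻¹ = (d * (b ^ k) ^ i * d⁻¹) * (d * (s ^ l) ^ j * d⁻¹) := by group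
  have hc : Commute ((b ^ k) ^ i) ((s ^ l) ^ j) :=
    (((show Commute b s from hbs).pow_left k).pow_right l |>.zpow_left i).zpow_right j
  rw [h5, ← conj_zpow, ← conj_zpow, ← conj_pow, ← conj_pow, hd, hds, hc.mul_pow]
  rw [sq_swap b k i, sq_swap s l j]

/-- elements of prime power order are conjugate into a Sylow subgroup -/
theorem exists_conj_mem [Finite T] {p : ℕ} [hp : Fact p.Prime] {S : Subgroup T} (hS : IsPGroup p S)
    (hidx : ¬ p ∣ S.index) {g : T} {k : ℕ} (hg : orderOf g = p ^ k) : ∃ t : T, t * g * t⁻¹ ∈ S := by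
  have h1 : IsPGroup p (Subgroup.zpowers g) := IsPGroup.of_card (n := k) (by rw [Nat.card_zpowers, hg])
  obtain ⟨Q, hQ⟩ := h1.exists_le_sylow
  obtain ⟨t, ht⟩ := MulAction.exists_smul_eq T Q (hS.toSylow hidx)
  refine ⟨t, ?_⟩
  have h2 : t * g * t⁻¹ ∈ ((hS.toSylow hidx : Sylow p T) : Subgroup T) := by
    rw [← ht, Sylow.coe_subgroup_smul, Subgroup.mem_pointwise_smul_iff_inv_smul_mem]
    have : (MulAut.conj t)⁻¹ • (t * g * t⁻¹) = g := by
      change (MulAut.conj t)⁻¹ (t * g * t⁻¹) = g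
      rw [MulAut.conj_inv_apply]
      group
    rw [this]
    exact hQ (Subgroup.mem_zpowers g)
  exact h2

/-- **commuting permutations of coprime prime orders** -/
theorem comm_trivial {α : Type*} [Fintype α] [DecidableEq α] {Y s : Equiv.Perm α} {r p : ℕ} [hr : Fact r.Prime]
    [hp : Fact p.Prime] (hrp : r ≠ p) (hY : Y ^ r = 1) (hs : s ^ p = 1) (hc : Y * s = s * Y)
    (hlt : Fintype.card α < r * p) (hfix : (Finset.univ.filter fun a => Y a = a).card < p) : s = 1 := by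
  have hcomm : ∀ a, Y (s a) = s (Y a) := fun a => congrArg (fun f : Equiv.Perm α => f a) hc
  have h1 : ({a : α | Y a ≠ a ∧ s a ≠ a} : Set α) = ∅ := by
    have e1 := card_modEq (α := α) hs {a | Y a ≠ a ∧ s a ≠ a} (by
      rintro a ⟨ha, ha'⟩
      refine ⟨fun h => ha ?_, fun h => ha' (s.injective h)⟩
      change Y (s a) = s a at h
      rw [hcomm] at h
      exact s.injective h)
    have e2 := card_modEq (α := α) hY {a | Y a ≠ a ∧ s a ≠ a} (by
      rintro a ⟨ha, ha'⟩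
      refine ⟨fun h => ha (Y.injective h), fun h => ha' ?_⟩
      change s (Y a) = Y a at h
      rw [← hcomm] at h
      exact Y.injective h)
    have z1 : Nat.card {a : α // a ∈ ({a | Y a ≠ a ∧ s a ≠ a} : Set α) ∧ s • a = a} = 0 := by
      rw [Nat.card_eq_zero]
      left
      exact ⟨fun a => a.2.1.2 a.2.2⟩
    have z2 : Nat.card {a : α // a ∈ ({a | Y a ≠ a ∧ s a ≠ a} : Set α) ∧ Y • a = a} = 0 := by
      rw [Nat.card_eq_zero]
      left
      exact ⟨fun a => a.2.1.1 a.2.2⟩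
    rw [z1] at e1
    rw [z2] at e2
    have d1 := (Nat.modEq_zero_iff_dvd).1 e1
    have d2 := (Nat.modEq_zero_iff_dvd).1 e2
    have d3 : r * p ∣ Nat.card ({a : α | Y a ≠ a ∧ s a ≠ a} : Set α) :=
      Nat.Coprime.mul_dvd_of_dvd_of_dvd ((Nat.coprime_primes hr.out hp.out).2 hrp) d2 d1
    have d4 : Nat.card ({a : α | Y a ≠ a ∧ s a ≠ a} : Set α) ≤ Fintype.card α := by
      rw [← Nat.card_eq_fintype_card]
      exact Nat.card_le_card_of_injective _ Subtype.val_injective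
    have d5 : Nat.card ({a : α | Y a ≠ a ∧ s a ≠ a} : Set α) = 0 := Nat.eq_zero_of_dvd_of_lt d3 (by omega)
    rw [Nat.card_eq_zero] at d5
    rcases d5 with d5 | d5
    · exact Set.isEmpty_coe_sort.1 d5
    · exact absurd d5 (not_infinite_iff_finite.2 inferInstance)
  have h2 : ({a : α | Y a = a ∧ s a ≠ a} : Set α) = ∅ := by
    have e1 := card_modEq (α := α) hs {a | Y a = a ∧ s a ≠ a} (by
      rintro a ⟨ha, ha'⟩
      refine ⟨?_, fun h => ha' (s.injective h)⟩
      change Y (s a) = s a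
      rw [hcomm, ha])
    have z1 : Nat.card {a : α // a ∈ ({a | Y a = a ∧ s a ≠ a} : Set α) ∧ s • a = a} = 0 := by
      rw [Nat.card_eq_zero]
      left
      exact ⟨fun a => a.2.1.2 a.2.2⟩
    rw [z1] at e1
    have d1 := (Nat.modEq_zero_iff_dvd).1 e1
    have d4 : Nat.card ({a : α | Y a = a ∧ s a ≠ a} : Set α) ≤ (Finset.univ.filter fun a => Y a = a).card := by
      rw [← Fintype.card_coe, ← Nat.card_eq_fintype_card]
      exact Nat.card_le_card_of_injective (fun a => ⟨a.1, by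
        rw [Finset.mem_filter]
        exact ⟨Finset.mem_univ _, a.2.1⟩⟩) (fun a b h => by
          have h' := congrArg Subtype.val h
          exact Subtype.ext h')
    have d5 : Nat.card ({a : α | Y a = a ∧ s a ≠ a} : Set α) = 0 := Nat.eq_zero_of_dvd_of_lt d1 (by omega)
    rw [Nat.card_eq_zero] at d5
    rcases d5 with d5 | d5
    · exact Set.isEmpty_coe_sort.1 d5
    · exact absurd d5 (not_infinite_iff_finite.2 inferInstance)
  apply Equiv.ext
  intro a
  by_contra h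
  by_cases h3 : Y a = a
  · have : a ∈ ({a : α | Y a = a ∧ s a ≠ a} : Set α) := ⟨h3, h⟩
    rw [h2] at this
    exact this
  · have : a ∈ ({a : α | Y a ≠ a ∧ s a ≠ a} : Set α) := ⟨h3, h⟩
    rw [h1] at this
    exact this

end Cfsg.Agent.H4.LDM.Cls
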