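import Cfsg.Agent.H4.LDM.Semi

/-!
# The 276 duads

In a frame: `D` is the set of the `x^i v` and of the sums of two of them; it is invariant under the involution
`Z` (`i ↦ -1/i`, with `∞`), under the cube twist `Fc`, but not under `1 + x`.
-/

set_option autoImplicit false

namespace Cfsg.Agent.H4.LDM

/-- `-1/i`, `23` for `∞` -/
def zt : List ℕ := [23, 22, 11, 15, 17, 9, 19, 13, 20, 5, 16, 2, 21, 7, 18, 3, 10, 4, 14, 6, 8, 12, 1]

/-- the cube twist -/
def ft : List ℕ := [0, 18, 6, 3, 2, 21, 1, 5, 16, 12, 7, 19, 8, 9, 17, 15, 13, 11, 4, 22, 10, 20, 14]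

/-- the columns of `Z` -/
def zc : List ℕ := [1, 1595, 1140, 434, 1741, 513, 987, 1354, 1973, 33, 871]

namespace Fm

variable {V : Type*} [AddCommGroup V] {G : Type*} [Group G] [DistribMulAction G V] {x y : G} {v : V}
  (h : Fm V G x y v)

include h

/-- coordinates -/
noncomputable def code (w : V) : ℕ := (h.surj w).choose

theorem code_lt (w : V) : h.code w < 2048 := (h.surj w).choose_spec.1
theorem vl_code (w : V) : vl (us x v) (h.code w) = w := (h.surj w).choose_spec.2

theorem code_add (w w' : V) : h.code (w + w') = h.code w ^^^ h.code w' := by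
  apply h.inj (h.code_lt _) (Nat.xor_lt_two_pow (n := 11) (h.code_lt _) (h.code_lt _))
  rw [h.vl_code, vl_xor h.two, h.vl_code, h.vl_code]

/-- the additive map with given columns -/
noncomputable def lmap (cs : List ℕ) : V →+ V where
  toFun w := vl (us x v) (lin cs (h.code w))
  map_zero' := by
    have h0 : h.code 0 = 0 := h.inj (h.code_lt _) (by norm_num) (by rw [h.vl_code, vl_zero])
    rw [h0, lin_zero, vl_zero]
  map_add' w w' := by rw [h.code_add, lin_xor, vl_xor h.two]

theorem lmap_vl (cs : List ℕ) {a : ℕ} (ha : a < 2048) : h.lmap cs (vl (us x v) a) = vl (us x v) (lin cs a) := by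
  have h0 : h.code (vl (us x v) a) = a := h.inj (h.code_lt _) ha (h.vl_code _)
  change vl (us x v) (lin cs (h.code _)) = _
  rw [h0]

theorem T_lt : ∀ k < 23, T.getD k 0 < 2048 := by decide +kernel

theorem lmap_pow (cs : List ℕ) {k : ℕ} (hk : k < 23) :
    h.lmap cs (x ^ k • v) = vl (us x v) (lin cs (T.getD k 0)) := by
  rw [h.pow_smul k hk, h.lmap_vl cs (h.T_lt k hk)]

theorem ext_hom {L L' : V →+ V} (hL : ∀ i < 11, L (x ^ i • v) = L' (x ^ i • v)) : L = L' := by
  ext w
  obtain ⟨a, -, rfl⟩ := h.surj w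
  have : ∀ (l : List V), (∀ u ∈ l, L u = L' u) → ∀ a, L (vl l a) = L' (vl l a) := by
    intro l
    induction l with
    | nil => intro _ a; rw [vl_nil, map_zero, map_zero]
    | cons u l ih =>
      intro hl a
      rw [vl_cons, map_add, map_add, ih (fun u hu => hl u (by simp [hu]))]
      congr 1
      split_ifs
      · exact hl u (by simp)
      · rw [map_zero, map_zero]
  apply this
  intro u hu
  unfold us at hu
  rw [List.mem_map] at hu
  obtain ⟨i, hi, rfl⟩ := hu
  exact hL i (List.mem_range.1 hi)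

/-- an additive map injective on `V` as an equivalence -/
theorem exists_equiv (L : V →+ V) (hL : ∀ w, L w = 0 → w = 0) : ∃ E : V ≃+ V, ∀ w, E w = L w := by
  have hfin := h.finite
  have h1 : Function.Injective L := (injective_iff_map_eq_zero L).2 hL
  have h2 : Function.Bijective L := ⟨h1, Finite.injective_iff_surjective.1 h1⟩
  exact ⟨AddEquiv.ofBijective L h2, fun w => rfl⟩

theorem exists_Z : ∃ E : V ≃+ V, E v = v ∧ ∀ i < 23, 0 < i → E (x ^ i • v) = v + x ^ (zt.getD i 0) • v := by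
  have hz : ∀ i < 23, 0 < i → h.lmap zc (x ^ i • v) = v + x ^ (zt.getD i 0) • v := by
    intro i hi hi0
    have h1 : ∀ i < 23, 0 < i → zt.getD i 0 < 23 ∧ lin zc (T.getD i 0) = 1 ^^^ T.getD (zt.getD i 0) 0 := by
      decide +kernel
    obtain ⟨h2, h3⟩ := h1 i hi hi0
    rw [h.lmap_pow zc hi, h3, vl_xor h.two, one_vl, ← h.pow_smul _ h2]
  have hv : h.lmap zc v = v := by
    have := h.lmap_pow zc (k := 0) (by norm_num)
    rw [pow_zero, one_smul] at this
    rw [this, show lin zc (T.getD 0 0) = 1 by decide +kernel, one_vl]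
  have hzz : (h.lmap zc).comp (h.lmap zc) = AddMonoidHom.id V := by
    apply h.ext_hom
    intro i hi
    rw [AddMonoidHom.comp_apply, AddMonoidHom.id_apply]
    rcases Nat.eq_zero_or_pos i with rfl | hi0
    · rw [pow_zero, one_smul, hv, hv]
    · rw [hz i (by omega) hi0, map_add, hv]
      have h4 : ∀ i < 23, 0 < i → zt.getD i 0 < 23 ∧ 0 < zt.getD i 0 ∧ zt.getD (zt.getD i 0) 0 = i := by
        decide +kernel
      obtain ⟨h5, h6, h7⟩ := h4 i (by omega) hi0
      rw [hz _ h5 h6, h7, ← add_assoc, h.two, zero_add]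
  obtain ⟨E, hE⟩ := h.exists_equiv (h.lmap zc) (by
    intro w hw
    have := DFunLike.congr_fun hzz w
    rw [AddMonoidHom.comp_apply, AddMonoidHom.id_apply, hw, map_zero] at this
    exact this.symm)
  exact ⟨E, by rw [hE, hv], fun i hi hi0 => by rw [hE, hz i hi hi0]⟩

/-- the columns of the cube twist -/
def fc : List ℕ := (List.range 11).map fun i => T.getD (ft.getD i 0) 0

theorem exists_F : ∃ E : V ≃+ V, ∀ i < 23, E (x ^ i • v) = x ^ (ft.getD i 0) • v := by
  have hz : ∀ i < 23, h.lmap fc (x ^ i • v) = x ^ (ft.getD i 0) • v := by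
    intro i hi
    have h1 : ∀ i < 23, ft.getD i 0 < 23 ∧ lin fc (T.getD i 0) = T.getD (ft.getD i 0) 0 := by
      decide +kernel
    obtain ⟨h2, h3⟩ := h1 i hi
    rw [h.lmap_pow fc hi, h3, ← h.pow_smul _ h2]
  have hit : ∀ n : ℕ, ∀ i < 23, (h.lmap fc)^[n] (x ^ i • v) = x ^ ((fun i => ft.getD i 0)^[n] i) • v := by
    intro n
    induction n with
    | zero => intro i _; rfl
    | succ n ih =>
      intro i hi
      have h1 : ∀ i < 23, ft.getD i 0 < 23 := by decide +kernel
      rw [Function.iterate_succ_apply, Function.iterate_succ_apply, hz i hi, ih _ (h1 i hi)]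
  obtain ⟨E, hE⟩ := h.exists_equiv (h.lmap fc) (by
    intro w hw
    have h5 : (h.lmap fc).comp ((h.lmap fc).comp ((h.lmap fc).comp ((h.lmap fc).comp (h.lmap fc)))) =
        AddMonoidHom.id V := by
      apply h.ext_hom
      intro i hi
      have h6 := hit 5 i (by omega)
      have h7 : ∀ i < 23, (fun i => ft.getD i 0)^[5] i = i := by decide +kernel
      rw [h7 i (by omega)] at h6
      exact h6
    have := DFunLike.congr_fun h5 w
    simp only [AddMonoidHom.comp_apply, AddMonoidHom.id_apply, hw, map_zero] at this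
    exact this.symm)
  exact ⟨E, fun i hi => by rw [hE, hz i hi]⟩

theorem exists_U : ∃ E : V ≃+ V, ∀ w : V, E w = w + x • w := by
  obtain ⟨E, hE⟩ := h.exists_equiv (AddMonoidHom.id V + act x) (by
    intro w hw
    apply h.fix_x
    have h1 : w + x • w = 0 := hw
    have h2 : x • w = w + (w + x • w) := by rw [← add_assoc, h.two, zero_add]
    rw [h2, h1, add_zero])
  exact ⟨E, hE⟩

/-! ### the duads -/

omit h in
/-- the points and their sums -/
def D (x : G) (v : V) : Set V :=
  {w | ∃ i < 23, w = x ^ i • v ∨ ∃ j < 23, i ≠ j ∧ w = x ^ i • v + x ^ j • v}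

omit h in
theorem pt_mem {i : ℕ} (hi : i < 23) : x ^ i • v ∈ D x v := ⟨i, hi, Or.inl rfl⟩

omit h in
theorem duad_mem {i j : ℕ} (hi : i < 23) (hj : j < 23) (hij : i ≠ j) : x ^ i • v + x ^ j • v ∈ D x v :=
  ⟨i, hi, Or.inr ⟨j, hj, hij, rfl⟩⟩

theorem v_mem : v ∈ D x v := by
  have := pt_mem (x := x) (v := v) (i := 0) (by norm_num)
  rwa [pow_zero, one_smul] at this

/-- the subgroup preserving `D` -/
def J : Subgroup G where
  carrier := {g | ∀ w ∈ D x v, g • w ∈ D x v}
  one_mem' := fun w hw => by rwa [one_smul]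
  mul_mem' := fun {a b} ha hb w hw => by
    rw [mul_smul]
    exact ha _ (hb _ hw)
  inv_mem' := fun {a} ha w hw => by
    have hfin := h.finite
    have h1 : Function.Injective (fun u : D x v => (⟨a • u.1, ha _ u.2⟩ : D x v)) := by
      intro u u' huu
      apply Subtype.ext
      exact smul_left_cancel a (congrArg Subtype.val huu)
    obtain ⟨⟨u, hu⟩, hu'⟩ := Finite.injective_iff_surjective.1 h1 ⟨w, hw⟩
    have h2 : a • u = w := congrArg Subtype.val hu'
    rw [← h2, inv_smul_smul]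
    exact hu

theorem mem_J {g : G} : g ∈ h.J ↔ ∀ w ∈ D x v, g • w ∈ D x v := Iff.rfl

theorem Z_mem {g : G} (h0 : g • v = v) (hg : ∀ i < 23, 0 < i → g • (x ^ i • v) = v + x ^ (zt.getD i 0) • v) :
    g ∈ h.J := by
  have h4 : ∀ i < 23, 0 < i → zt.getD i 0 < 23 ∧ 0 < zt.getD i 0 ∧ zt.getD (zt.getD i 0) 0 = i := by
    decide +kernel
  rintro w ⟨i, hi, rfl | ⟨j, hj, hij, rfl⟩⟩
  · rcases Nat.eq_zero_or_pos i with rfl | hi0
    · rw [pow_zero, one_smul, h0]; exact h.v_mem
    · rw [hg i hi hi0]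
      have h1 := duad_mem (x := x) (v := v) (i := 0) (by norm_num) (h4 i hi hi0).1 (h4 i hi hi0).2.1.ne
      rwa [pow_zero, one_smul] at h1
  · rcases Nat.eq_zero_or_pos i with rfl | hi0
    · have hj0 : 0 < j := by omega
      rw [smul_add, pow_zero, one_smul, h0, hg j hj hj0, ← add_assoc, h.two, zero_add]
      exact pt_mem (h4 j hj hj0).1
    · rcases Nat.eq_zero_or_pos j with rfl | hj0
      · rw [smul_add, pow_zero, one_smul, h0, hg i hi hi0, add_comm, ← add_assoc, h.two, zero_add]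
        exact pt_mem (h4 i hi hi0).1
      · rw [smul_add, hg i hi hi0, hg j hj hj0,
          show v + x ^ zt.getD i 0 • v + (v + x ^ zt.getD j 0 • v) =
            (v + v) + (x ^ zt.getD i 0 • v + x ^ zt.getD j 0 • v) by abel, h.two, zero_add]
        apply duad_mem (h4 i hi hi0).1 (h4 j hj hj0).1
        intro he
        apply hij
        rw [← (h4 i hi hi0).2.2, he, (h4 j hj hj0).2.2]

theorem F_mem {g : G} (hg : ∀ i < 23, g • (x ^ i • v) = x ^ (ft.getD i 0) • v) : g ∈ h.J := by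
  have h4 : ∀ i < 23, ft.getD i 0 < 23 := by decide +kernel
  have h5 : ∀ i < 23, ∀ j < 23, ft.getD i 0 = ft.getD j 0 → i = j := by decide +kernel
  rintro w ⟨i, hi, rfl | ⟨j, hj, hij, rfl⟩⟩
  · rw [hg i hi]; exact pt_mem (h4 i hi)
  · rw [smul_add, hg i hi, hg j hj]
    exact duad_mem (h4 i hi) (h4 j hj) fun he => hij (h5 i hi j hj he)

theorem U_not_mem {g : G} (hg : ∀ w : V, g • w = w + x • w) : g ∉ h.J := by
  intro hJ
  have h1 := hJ _ (duad_mem (x := x) (v := v) (i := 0) (j := 2) (by norm_num) (by norm_num) (by norm_num))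
  have h2 : g • (x ^ 0 • v + x ^ 2 • v) = vl (us x v) 15 := by
    rw [hg, smul_add, ← mul_smul, ← mul_smul, ← pow_succ', ← pow_succ']
    rw [show (15 : ℕ) = (2 ^ 0 ^^^ 2 ^ 2) ^^^ (2 ^ 1 ^^^ 2 ^ 3) by decide, vl_xor h.two, vl_xor h.two, vl_xor h.two,
      vl_single 0 (by norm_num), vl_single 1 (by norm_num), vl_single 2 (by norm_num), vl_single 3 (by norm_num)]
  rw [h2] at h1
  obtain ⟨i, hi, h3 | ⟨j, hj, -, h3⟩⟩ := h1
  · rw [h.pow_smul i hi] at h3
    have h4 := h.inj (by norm_num) (h.T_lt i hi) h3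
    have h5 : ∀ i < 23, 15 ≠ T.getD i 0 := by decide +kernel
    exact h5 i hi h4
  · rw [h.pow_smul i hi, h.pow_smul j hj, ← vl_xor h.two] at h3
    have h4 := h.inj (by norm_num) (Nat.xor_lt_two_pow (n := 11) (h.T_lt i hi) (h.T_lt j hj)) h3
    have h5 : ∀ i < 23, ∀ j < 23, 15 ≠ T.getD i 0 ^^^ T.getD j 0 := by decide +kernel
    exact h5 i hi j hj h4

/-- the powers `x^i v` are distinct -/
theorem pt_inj {i j : ℕ} (hi : i < 23) (hj : j < 23) (hij : x ^ i • v = x ^ j • v) : i = j := by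
  rw [h.pow_smul i hi, h.pow_smul j hj] at hij
  have h4 := h.inj (h.T_lt i hi) (h.T_lt j hj) hij
  have h5 : ∀ i < 23, ∀ j < 23, T.getD i 0 = T.getD j 0 → i = j := by decide +kernel
  exact h5 i hi j hj h4

/-- a sum of two points is not a point -/
theorem pt_ne_duad {i j k : ℕ} (hi : i < 23) (hj : j < 23) (hk : k < 23) :
    x ^ k • v ≠ x ^ i • v + x ^ j • v := by
  intro hij
  rw [h.pow_smul i hi, h.pow_smul j hj, h.pow_smul k hk, ← vl_xor h.two] at hij
  have h4 := h.inj (h.T_lt k hk) (Nat.xor_lt_two_pow (n := 11) (h.T_lt i hi) (h.T_lt j hj)) hij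
  have h5 : ∀ i < 23, ∀ j < 23, ∀ k < 23, T.getD k 0 ≠ T.getD i 0 ^^^ T.getD j 0 := by decide +kernel
  exact h5 i hi j hj k hk h4

end Fm

end Cfsg.Agent.H4.LDM
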