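import Cfsg.Agent.H4.LDM.Base

/-!
# The action of the Frobenius group 23:11 on an elementary abelian group of order 2^11

`V` elementary abelian of order 2048, `x`, `y` in a group acting on `V`, `x^23 = 1`, `x` not trivial on `V`,
`y x y⁻¹ = x²`, `y^11 = 1`.

* `sub_card` : `x`-invariant subgroups are trivial;
* `exists_fix` : the fixed points of `y` are `{0, v}`;
* `pol_zero` : `x` satisfies one of the two irreducible polynomials of degree 11;
* `Fr` (a frame: `x` satisfies the second polynomial, `v ≠ 0` fixed by `y`): the coordinates `vl us`.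
-/

set_option autoImplicit false

namespace Cfsg.Agent.H4.LDM

/-- the hypotheses -/
structure Fb (V : Type*) [AddCommGroup V] (G : Type*) [Group G] [DistribMulAction G V] (x y : G) : Prop where
  two : ∀ v : V, v + v = 0
  card : Nat.card V = 2048
  hx : x ^ 23 = 1
  hxn : ∃ v : V, x • v ≠ v
  hxy : y * x = x ^ 2 * y
  hy : y ^ 11 = 1

namespace Fb

variable {V : Type*} [AddCommGroup V] {G : Type*} [Group G] [DistribMulAction G V] {x y : G} (h : Fb V G x y)

include h

theorem finite : Finite V := Nat.finite_of_card_ne_zero (by rw [h.card]; norm_num)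

theorem card_sub (U : AddSubgroup V) : ∃ k ≤ 11, Nat.card U = 2 ^ k := by
  have h1 : Nat.card U ∣ 2 ^ 11 := by
    have := U.card_addSubgroup_dvd_card
    rw [h.card] at this
    exact this
  obtain ⟨k, hk, hk'⟩ := (Nat.dvd_prime_pow Nat.prime_two).1 h1
  exact ⟨k, hk, hk'⟩

/-- the fixed points of an element -/
def fixS (g : G) : AddSubgroup V where
  carrier := {w | g • w = w}
  zero_mem' := smul_zero g
  add_mem' := fun {a b} ha hb => by
    change g • (a + b) = a + b
    rw [smul_add, show g • a = a from ha, show g • b = b from hb]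
  neg_mem' := fun {a} ha => by
    change g • (-a) = -a
    rw [smul_neg, show g • a = a from ha]

omit h in
theorem mem_fixS {g : G} {w : V} : w ∈ fixS g ↔ g • w = w := Iff.rfl

theorem fix_mod {g : G} {r : ℕ} [Fact r.Prime] (hg : g ^ r = 1) (U : AddSubgroup V) (hU : ∀ u ∈ U, g • u ∈ U) :
    Nat.card U ≡ Nat.card {w : V // w ∈ U ∧ g • w = w} [MOD r] := by
  have := h.finite
  exact card_modEq (α := V) hg (U : Set V) hU

theorem fix_x : ∀ w : V, x • w = w → w = 0 := by
  have hfin := h.finite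
  have : Fact (Nat.Prime 23) := ⟨by norm_num⟩
  obtain ⟨k, hk, hk'⟩ := h.card_sub (fixS x)
  have h1 := h.fix_mod h.hx ⊤ (fun u _ => AddSubgroup.mem_top _)
  have h2 : Nat.card (⊤ : AddSubgroup V) = 2048 := by rw [AddSubgroup.card_top, h.card]
  have h3 : Nat.card {w : V // w ∈ (⊤ : AddSubgroup V) ∧ x • w = w} = Nat.card (fixS (V := V) x) :=
    Nat.card_congr ⟨fun w => ⟨w.1, w.2.2⟩, fun w => ⟨w.1, AddSubgroup.mem_top _, w.2⟩, fun _ => rfl, fun _ => rfl⟩
  rw [h2, h3, hk'] at h1
  have h4 : k = 0 ∨ k = 11 := by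
    unfold Nat.ModEq at h1
    interval_cases k <;> simp_all
  rcases h4 with rfl | rfl
  · intro w hw
    have h5 : (fixS x : AddSubgroup V) = ⊥ := AddSubgroup.eq_bot_of_card_eq _ (by rw [hk', pow_zero])
    have h6 : w ∈ (fixS x : AddSubgroup V) := hw
    rw [h5] at h6
    exact AddSubgroup.mem_bot.1 h6
  · exfalso
    obtain ⟨v, hv⟩ := h.hxn
    have h5 : (fixS x : AddSubgroup V) = ⊤ := AddSubgroup.eq_top_of_card_eq _ (by rw [hk', h.card]; norm_num)
    apply hv
    have h6 : v ∈ (⊤ : AddSubgroup V) := AddSubgroup.mem_top _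
    rw [← h5] at h6
    exact h6

/-- an `x`-invariant subgroup is trivial -/
theorem sub_card (U : AddSubgroup V) (hU : ∀ u ∈ U, x • u ∈ U) : U = ⊥ ∨ U = ⊤ := by
  have hfin := h.finite
  have : Fact (Nat.Prime 23) := ⟨by norm_num⟩
  obtain ⟨k, hk, hk'⟩ := h.card_sub U
  have h1 := h.fix_mod h.hx U hU
  have h3 : Nat.card {w : V // w ∈ U ∧ x • w = w} = 1 := by
    rw [Nat.card_eq_one_iff_unique]
    refine ⟨⟨fun a b => Subtype.ext ?_⟩, ⟨⟨0, U.zero_mem, smul_zero _⟩⟩⟩
    rw [h.fix_x _ a.2.2, h.fix_x _ b.2.2]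
  rw [h3, hk'] at h1
  have h4 : k = 0 ∨ k = 11 := by
    unfold Nat.ModEq at h1
    interval_cases k <;> simp_all
  rcases h4 with rfl | rfl
  · exact Or.inl (AddSubgroup.eq_bot_of_card_eq _ (by rw [hk', pow_zero]))
  · exact Or.inr (AddSubgroup.eq_top_of_card_eq _ (by rw [hk', h.card]; norm_num))

theorem exists_fix : ∃ v : V, v ≠ 0 ∧ y • v = v ∧ ∀ w : V, y • w = w → w = 0 ∨ w = v := by
  have hfin := h.finite
  have : Fact (Nat.Prime 11) := ⟨by norm_num⟩
  obtain ⟨k, hk, hk'⟩ := h.card_sub (fixS y)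
  have h1 := h.fix_mod h.hy ⊤ (fun u _ => AddSubgroup.mem_top _)
  have h2 : Nat.card (⊤ : AddSubgroup V) = 2048 := by rw [AddSubgroup.card_top, h.card]
  have h3 : Nat.card {w : V // w ∈ (⊤ : AddSubgroup V) ∧ y • w = w} = Nat.card (fixS (V := V) y) :=
    Nat.card_congr ⟨fun w => ⟨w.1, w.2.2⟩, fun w => ⟨w.1, AddSubgroup.mem_top _, w.2⟩, fun _ => rfl, fun _ => rfl⟩
  rw [h2, h3, hk'] at h1
  have h4 : k = 1 ∨ k = 11 := by
    unfold Nat.ModEq at h1
    interval_cases k <;> simp_all
  rcases h4 with rfl | rfl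
  · rw [pow_one] at hk'
    obtain ⟨a, b, hab, huniv⟩ := Nat.card_eq_two_iff.1 hk'
    have hcases : ∀ w : (fixS y : AddSubgroup V), w = a ∨ w = b := by
      intro w
      have : w ∈ ({a, b} : Set (fixS y : AddSubgroup V)) := by rw [huniv]; trivial
      simpa using this
    rcases hcases 0 with h0 | h0
    · refine ⟨b.1, ?_, b.2, ?_⟩
      · intro hb
        apply hab
        rw [← h0]
        exact Subtype.ext hb.symm
      · intro w hw
        rcases hcases ⟨w, hw⟩ with h5 | h5
        · left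
          rw [← h0] at h5
          exact congrArg Subtype.val h5
        · right
          exact congrArg Subtype.val h5
    · refine ⟨a.1, ?_, a.2, ?_⟩
      · intro hb
        apply hab
        rw [← h0]
        exact Subtype.ext hb
      · intro w hw
        rcases hcases ⟨w, hw⟩ with h5 | h5
        · right
          exact congrArg Subtype.val h5
        · left
          rw [← h0] at h5
          exact congrArg Subtype.val h5
  · exfalso
    have h5 : (fixS y : AddSubgroup V) = ⊤ := AddSubgroup.eq_top_of_card_eq _ (by rw [hk', h.card]; norm_num)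
    have h6 : ∀ w : V, y • w = w := fun w => by
      have h6 : w ∈ (⊤ : AddSubgroup V) := AddSubgroup.mem_top _
      rw [← h5] at h6
      exact h6
    obtain ⟨v, hv⟩ := h.hxn
    apply hv
    have h7 : x • v = x • (x • v) := by
      calc x • v = y • (x • v) := (h6 _).symm
        _ = (y * x) • v := by rw [mul_smul]
        _ = (x ^ 2) • (y • v) := by rw [h.hxy, mul_smul]
        _ = x • (x • v) := by rw [h6, pow_two, mul_smul]
    exact (smul_left_cancel x h7).symm

/-! ### the polynomials -/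

omit h in
/-- a polynomial in `x` with coefficients 0 and 1 -/
def pol (x : G) (S : Finset ℕ) : V →+ V where
  toFun w := ∑ i ∈ S, x ^ i • w
  map_zero' := by simp
  map_add' a b := by simp [smul_add, Finset.sum_add_distrib]

omit h in
theorem pol_apply (S : Finset ℕ) (w : V) : pol x S w = ∑ i ∈ S, x ^ i • w := rfl

/-- exponents of the first polynomial -/
def S1 : Finset ℕ := {0, 1, 5, 6, 7, 9, 11}
/-- exponents of the second polynomial -/
def S2 : Finset ℕ := {0, 2, 4, 5, 6, 10, 11}

omit h in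
theorem count12 : ∀ k ∈ Finset.range 23, ((S1 ×ˢ S2).filter (fun p => p.1 + p.2 = k)).card % 2 = 1 := by
  decide +kernel

omit h in
theorem sum12 : ∀ p ∈ S1 ×ˢ S2, p.1 + p.2 ∈ Finset.range 23 := by decide +kernel

theorem nsmul_odd {n : ℕ} (hn : n % 2 = 1) (v : V) : n • v = v := by
  obtain ⟨m, rfl⟩ : ∃ m, n = 2 * m + 1 := ⟨n / 2, by omega⟩
  rw [add_smul, mul_smul, one_smul, two_smul, h.two, zero_add]

theorem pol_comp (w : V) : pol x S1 (pol x S2 w) = pol x (Finset.range 23) w := by
  rw [pol_apply, pol_apply, pol_apply]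
  have h1 : ∑ i ∈ S1, x ^ i • ∑ j ∈ S2, x ^ j • w = ∑ p ∈ S1 ×ˢ S2, x ^ (p.1 + p.2) • w := by
    rw [Finset.sum_product]
    apply Finset.sum_congr rfl
    intro i _
    rw [Finset.smul_sum]
    apply Finset.sum_congr rfl
    intro j _
    rw [pow_add, mul_smul]
  rw [h1, ← Finset.sum_fiberwise_of_maps_to (g := fun p : ℕ × ℕ => p.1 + p.2) sum12]
  apply Finset.sum_congr rfl
  intro k hk
  have h2 : ∑ p ∈ S1 ×ˢ S2 with p.1 + p.2 = k, x ^ (p.1 + p.2) • w =
      ∑ p ∈ S1 ×ˢ S2 with p.1 + p.2 = k, x ^ k • w := by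
    apply Finset.sum_congr rfl
    intro p hp
    rw [(Finset.mem_filter.1 hp).2]
  rw [h2, Finset.sum_const, h.nsmul_odd (count12 k hk)]

theorem pol_all (w : V) : pol x (Finset.range 23) w = 0 := by
  apply h.fix_x
  rw [pol_apply, Finset.smul_sum]
  have h1 : ∑ i ∈ Finset.range 23, x • x ^ i • w = ∑ i ∈ Finset.range 23, x ^ (i + 1) • w := by
    apply Finset.sum_congr rfl
    intro i _
    rw [pow_succ', mul_smul]
  rw [h1, Finset.sum_range_succ, Finset.sum_range_succ' (fun i => x ^ i • w), h.hx, pow_zero]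

omit h in
theorem pol_x (S : Finset ℕ) (w : V) : pol x S (x • w) = x • pol x S w := by
  rw [pol_apply, pol_apply, Finset.smul_sum]
  apply Finset.sum_congr rfl
  intro i _
  rw [← mul_smul, ← mul_smul, ← pow_succ, ← pow_succ']

/-- **`x` satisfies one of the two polynomials** -/
theorem pol_zero : (∀ w : V, pol x S1 w = 0) ∨ (∀ w : V, pol x S2 w = 0) := by
  rcases h.sub_card (pol x S1 : V →+ V).ker (by
    intro u hu
    rw [AddMonoidHom.mem_ker] at hu ⊢
    rw [pol_x, hu, smul_zero]) with h1 | h1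
  · right
    intro w
    have h2 : pol x S2 w ∈ (pol x S1 : V →+ V).ker := by
      rw [AddMonoidHom.mem_ker, h.pol_comp, h.pol_all]
    rw [h1] at h2
    exact AddSubgroup.mem_bot.1 h2
  · left
    intro w
    have h2 : w ∈ (⊤ : AddSubgroup V) := AddSubgroup.mem_top _
    rw [← h1] at h2
    exact h2

end Fb

/-! ### coordinates -/

/-- the powers of `t` modulo `t^11 + t^10 + t^6 + t^5 + t^4 + t^2 + 1` -/
def T : List ℕ := [1, 2, 4, 8, 16, 32, 64, 128, 256, 512, 1024, 1141, 1183, 1355, 1763, 435, 870, 1740, 493, 986, 1972,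
  797, 1594]

/-- multiplication by `t^k` -/
def mc (k : ℕ) : List ℕ := (List.range 11).map fun i => T.getD ((i + k) % 23) 0

/-- squaring -/
def sc : List ℕ := (List.range 11).map fun i => T.getD ((2 * i) % 23) 0

/-- a frame -/
structure Fm (V : Type*) [AddCommGroup V] (G : Type*) [Group G] [DistribMulAction G V] (x y : G) (v : V) : Prop
    extends Fb V G x y where
  pol2 : ∀ w : V, Fb.pol x Fb.S2 w = 0
  ne : v ≠ 0
  fix : y • v = v
  uniq : ∀ w : V, y • w = w → w = 0 ∨ w = v

/-- the basis -/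
def us {V : Type*} [AddCommGroup V] {G : Type*} [Group G] [DistribMulAction G V] (x : G) (v : V) : List V :=
  (List.range 11).map fun i => x ^ i • v

namespace Fm

variable {V : Type*} [AddCommGroup V] {G : Type*} [Group G] [DistribMulAction G V] {x y : G} {v : V}
  (h : Fm V G x y v)

include h

theorem forall2 {L : V → V} {c : ℕ → ℕ} (hL : ∀ i < 11, L (x ^ i • v) = vl (us x v) (c i)) :
    List.Forall₂ (fun u c => L u = vl (us x v) c) (us x v) ((List.range 11).map c) := by
  unfold us
  rw [List.forall₂_map_left_iff, List.forall₂_map_right_iff, List.forall₂_same]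
  intro i hi
  exact hL i (List.mem_range.1 hi)

/-- an additive map in coordinates -/
theorem map_vl (L : V →+ V) {c : ℕ → ℕ} (hL : ∀ i < 11, L (x ^ i • v) = vl (us x v) (c i)) (a : ℕ) :
    L (vl (us x v) a) = vl (us x v) (lin ((List.range 11).map c) a) :=
  vl_lin h.two L (h.forall2 hL) a

omit h in
/-- the action of an element as an additive map -/
def act (g : G) : V →+ V := DistribMulAction.toAddMonoidHom V g

theorem smul_vl (g : G) {c : ℕ → ℕ} (hL : ∀ i < 11, g • (x ^ i • v) = vl (us x v) (c i)) (a : ℕ) :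
    g • (vl (us x v) a) = vl (us x v) (lin ((List.range 11).map c) a) :=
  h.map_vl (act g) hL a

omit h in
theorem vl_single : ∀ i < 11, vl (us x v) (2 ^ i) = x ^ i • v := by
  intro i hi
  unfold us
  simp only [show List.range 11 = [0, 1, 2, 3, 4, 5, 6, 7, 8, 9, 10] from rfl, List.map_cons, List.map_nil,
    vl_cons, vl_nil]
  interval_cases i <;> norm_num

theorem pow_eleven : x ^ 11 • v = vl (us x v) 1141 := by
  have h1 := h.pol2 v
  rw [Fb.pol_apply, show Fb.S2 = {0, 2, 4, 5, 6, 10, 11} from rfl] at h1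
  simp only [Finset.sum_insert, Finset.mem_insert, Finset.mem_singleton, Finset.sum_singleton, OfNat.zero_ne_ofNat,
    OfNat.ofNat_ne_zero, Nat.reduceEqDiff, or_self, not_false_eq_true] at h1
  unfold us
  simp only [show List.range 11 = [0, 1, 2, 3, 4, 5, 6, 7, 8, 9, 10] from rfl, List.map_cons, List.map_nil,
    vl_cons, vl_nil]
  norm_num
  have h2 : ∀ a b : V, a + b = 0 → b = a := fun a b hab => by
    have : b = a + (a + b) := by rw [← add_assoc, h.two, zero_add]
    rw [this, hab, add_zero]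
  rw [pow_zero, one_smul] at h1
  refine h2 _ _ ?_
  rw [← h1]
  abel

theorem smul_x (a : ℕ) : x • vl (us x v) a = vl (us x v) (lin (mc 1) a) := by
  apply h.smul_vl
  intro i hi
  rw [← mul_smul, ← pow_succ']
  rcases Nat.lt_or_ge i 10 with h1 | h1
  · rw [← vl_single (i + 1) (by omega)]
    interval_cases i <;> rfl
  · obtain rfl : i = 10 := by omega
    exact h.pow_eleven

theorem pow_smul (k : ℕ) (hk : k < 23) : x ^ k • v = vl (us x v) (T.getD k 0) := by
  induction k with
  | zero => rw [← vl_single 0 (by omega)]; rfl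
  | succ k ih =>
    rw [pow_succ', mul_smul, ih (by omega), h.smul_x]
    congr 1
    have : ∀ k < 22, lin (mc 1) (T.getD k 0) = T.getD (k + 1) 0 := by decide +kernel
    exact this k (by omega)

theorem pow_smul_mod (k : ℕ) : x ^ k • v = vl (us x v) (T.getD (k % 23) 0) := by
  rw [← h.pow_smul _ (Nat.mod_lt _ (by norm_num))]
  congr 1
  conv_lhs => rw [← Nat.div_add_mod k 23, pow_add, pow_mul, h.hx, one_pow, one_mul]

theorem smul_xk (k a : ℕ) : x ^ k • vl (us x v) a = vl (us x v) (lin (mc k) a) := by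
  apply h.smul_vl
  intro i hi
  rw [← mul_smul, ← pow_add, h.pow_smul_mod, add_comm]

theorem y_pow (k : ℕ) (w : V) : y • (x ^ k • w) = x ^ (2 * k) • (y • w) := by
  rw [← mul_smul, ← mul_smul]
  congr 1
  induction k with
  | zero => simp
  | succ k ih =>
    rw [pow_succ, ← mul_assoc, ih, mul_assoc, h.hxy, ← mul_assoc, ← pow_add]
    ring_nf

theorem smul_y (a : ℕ) : y • vl (us x v) a = vl (us x v) (lin sc a) := by
  apply h.smul_vl
  intro i hi
  rw [h.y_pow, h.fix, h.pow_smul_mod]

/-! ### bijectivity -/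

theorem surj (w : V) : ∃ a < 2048, vl (us x v) a = w := by
  let R : AddSubgroup V :=
    { carrier := {w | ∃ a < 2048, vl (us x v) a = w}
      zero_mem' := ⟨0, by norm_num, vl_zero _⟩
      add_mem' := by
        rintro _ _ ⟨a, ha, rfl⟩ ⟨b, hb, rfl⟩
        exact ⟨a ^^^ b, Nat.xor_lt_two_pow (n := 11) ha hb, vl_xor h.two _ _ _⟩
      neg_mem' := by
        rintro _ ⟨a, ha, rfl⟩
        exact ⟨a, ha, (neg_eq_of_add_eq_zero_left (h.two _)).symm⟩ }
  have hR : ∀ u ∈ R, x • u ∈ R := by
    rintro _ ⟨a, ha, rfl⟩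
    refine ⟨lin (mc 1) a, ?_, (h.smul_x a).symm⟩
    exact lin_lt (n := 11) _ (by decide) _
  rcases h.sub_card R hR with h1 | h1
  · exfalso
    have h2 : v ∈ R := ⟨1, by norm_num, by
      have := vl_single (x := x) (v := v) 0 (by norm_num)
      rw [pow_zero, pow_zero, one_smul] at this
      exact this⟩
    rw [h1] at h2
    exact h.ne (AddSubgroup.mem_bot.1 h2)
  · have h2 : w ∈ (⊤ : AddSubgroup V) := AddSubgroup.mem_top _
    rw [← h1] at h2
    exact h2

theorem inj {a b : ℕ} (ha : a < 2048) (hb : b < 2048) (hab : vl (us x v) a = vl (us x v) b) : a = b := by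
  have hfin := h.finite
  have h1 : Function.Surjective (fun i : Fin 2048 => vl (us x v) i.1) := by
    intro w
    obtain ⟨a, ha, haw⟩ := h.surj w
    exact ⟨⟨a, ha⟩, haw⟩
  have h2 : Function.Bijective (fun i : Fin 2048 => vl (us x v) i.1) := by
    rw [Nat.bijective_iff_surjective_and_card]
    exact ⟨h1, by rw [h.card, Nat.card_eq_fintype_card, Fintype.card_fin]⟩
  have h3 := h2.1 (a₁ := ⟨a, ha⟩) (a₂ := ⟨b, hb⟩) hab
  exact congrArg Fin.val h3

end Fm

end Cfsg.Agent.H4.LDM
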