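import Cfsg.Agent.H4.LDM.Semi

/-!
# The involution of `L2(23)` in a frame
-/

set_option autoImplicit false

namespace Cfsg.Agent.H4.LDM

/-- the relation for `L2(23)` -/
def relZ (c : ℕ) : Bool :=
  Nat.beq (lin (sqs 11 c) 2047) 1 && Nat.beq (ap B10 c (lin (mc 1) c)) 1594 && Nat.beq (ap B10 c c) 2

theorem cZ_all : ∀ k < 8, ∀ c < 256, relZ (256 * k + c) = true → 256 * k + c = 1595 := by decide +kernel

theorem cZ_unique {c : ℕ} (hc : c < 2048) (h : relZ c = true) : c = 1595 := by
  have h1 := cZ_all (c / 256) (by omega) (c % 256) (by omega)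
  rw [Nat.div_add_mod] at h1
  exact h1 h

end Cfsg.Agent.H4.LDM
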