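import Cfsg.Agent.H4.LDM.Duads
import Cfsg.Agent.H4.LDM.SemiZ

/-!
# The overgroups of `M23` and `L2(23)` in `GL_11(2)` (abstract form)

`𝒢` acts faithfully on `V` and realises all automorphisms; `H` is a subgroup with a normal subgroup `P`:
* `kill23` : `P` generated by `x, f` as `M23`: `H` is not maximal;
* `killL2` : `P` generated by `x, z` as `L2(23)`: `H` is not maximal.
-/

set_option autoImplicit false

namespace Cfsg.Agent.H4.LDM

/-- elements of order `r` are conjugate up to powers if `r²` does not divide the order -/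
theorem exists_conj_pow {T : Type*} [Group T] [Finite T] {r : ℕ} [hr : Fact r.Prime] (hr2 : ¬ r ^ 2 ∣ Nat.card T)
    {a b : T} (ha : orderOf a = r) (hb : orderOf b = r) : ∃ (t : T) (k : ℕ), t * a * t⁻¹ = b ^ k := by
  have key : ∀ c : T, orderOf c = r → ∃ Q : Sylow r T, (Q : Subgroup T) = Subgroup.zpowers c := by
    intro c hc
    have h1 : IsPGroup r (Subgroup.zpowers c) := IsPGroup.of_card (n := 1) (by rw [Nat.card_zpowers, hc, pow_one])
    obtain ⟨Q, hQ⟩ := h1.exists_le_sylow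
    refine ⟨Q, (Subgroup.eq_of_le_of_card_ge hQ ?_).symm⟩
    rw [Nat.card_zpowers, hc]
    obtain ⟨n, hn⟩ := IsPGroup.iff_card.1 Q.isPGroup'
    have h2 : n < 2 := by
      by_contra h3
      push Not at h3
      apply hr2
      exact (pow_dvd_pow r h3).trans (hn ▸ Subgroup.card_subgroup_dvd_card _)
    rw [hn]
    calc r ^ n ≤ r ^ 1 := Nat.pow_le_pow_right hr.out.pos (by omega)
      _ = r := pow_one r
  obtain ⟨Q, hQ⟩ := key a ha
  obtain ⟨R, hR⟩ := key b hb
  obtain ⟨t, ht⟩ := MulAction.exists_smul_eq T Q R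
  have h3 : t * a * t⁻¹ ∈ (R : Subgroup T) := by
    rw [← ht, Sylow.coe_subgroup_smul, Subgroup.mem_pointwise_smul_iff_inv_smul_mem, hQ]
    have : (MulAut.conj t)⁻¹ • (t * a * t⁻¹) = a := by
      change (MulAut.conj t)⁻¹ (t * a * t⁻¹) = a
      rw [MulAut.conj_inv_apply]
      group
    rw [this]
    exact Subgroup.mem_zpowers a
  rw [hR] at h3
  have hfin : IsOfFinOrder b := orderOf_pos_iff.1 (by rw [hb]; exact hr.out.pos)
  obtain ⟨k, hk⟩ := hfin.mem_powers_iff_mem_zpowers.2 h3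
  exact ⟨t, k, hk.symm⟩

namespace Fm

variable {V : Type*} [AddCommGroup V] {G : Type*} [Group G] [DistribMulAction G V] {x y : G} {v : V}
  (h : Fm V G x y v)

include h

/-- the images of the points under `f` -/
theorem f_pts {f : G} (hf : f * y = y ^ 3 * f) (hf' : y * f = f * y ^ 4)
    (hrel : f * x ^ 8 * f ^ 3 * x ^ 22 * f ^ 4 * x ^ 4 = x ^ 5 * (y ^ 10 * f ^ 4)) :
    ∀ i < 23, f • (x ^ i • v) = x ^ (ft.getD i 0) • v := by
  obtain ⟨c, hc, hcv⟩ := h.surj (f • (x • v))
  have hfv := h.semi_fix hf'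
  have hap := h.smul_semi hf (e' := 4) (by norm_num) okB3 rfl hcv.symm
  have hap' : ∀ a, f • vl (us x v) a = vl (us x v) (ap B3 c a) := hap
  have hlt : ∀ a, ap B3 c a < 2048 := by
    intro a
    unfold ap
    apply lin_lt (n := 11)
    intro d hd
    rw [sqs_eq, List.mem_map] at hd
    obtain ⟨k, -, rfl⟩ := hd
    cases k with
    | zero => exact hc
    | succ k =>
      have : ∀ (k : ℕ) (a : ℕ), a < 2048 → sqp a k < 2048 := by
        intro k
        induction k with
        | zero => intro a ha; exact ha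
        | succ k ih => intro a _; exact ih _ (lin_lt (n := 11) _ (by decide +kernel) _)
      exact this _ _ hc
  have h1 : lin (sqs 11 c) 2047 = 1 := by
    have h2 := hap' 1
    rw [one_vl, hfv] at h2
    have h3 : ap B3 c 1 = 1 := h.inj (hlt _) (by norm_num) (by rw [← h2, one_vl])
    have h4 : ap B3 c 1 = lin (sqs 11 c) 2047 := rfl
    rw [← h4, h3]
  have hyv : ∀ j : ℕ, y ^ j • v = v := by
    intro j
    induction j with
    | zero => simp
    | succ j ih => rw [pow_succ, mul_smul, h.fix, ih]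
  have hfj : ∀ j : ℕ, f ^ j • v = v := by
    intro j
    induction j with
    | zero => simp
    | succ j ih => rw [pow_succ, mul_smul, hfv, ih]
  have h2 : ap B3 c (lin (mc 8) (ap B3 c (ap B3 c (ap B3 c
    (lin (mc 22) (ap B3 c (ap B3 c (ap B3 c (ap B3 c 16))))))))) = 32 := by
    apply h.inj (hlt _) (by norm_num)
    rw [← hap', ← h.smul_xk, ← hap', ← hap', ← hap', ← h.smul_xk, ← hap', ← hap', ← hap', ← hap']
    have h3 : vl (us x v) 16 = x ^ 4 • v := vl_single 4 (by norm_num)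
    have h4 : vl (us x v) 32 = x ^ 5 • v := vl_single 5 (by norm_num)
    rw [h3, h4]
    have h5 := congrArg (fun g : G => g • v) hrel
    simp only [mul_smul] at h5
    rw [hfj, hyv] at h5
    rw [← h5, show f ^ 3 = f * (f * f) by simp only [pow_succ, pow_zero, one_mul, mul_assoc],
      show f ^ 4 = f * (f * (f * f)) by simp only [pow_succ, pow_zero, one_mul, mul_assoc]]
    simp only [mul_smul]
  have h3 : relF c = true := by
    unfold relF
    rw [h1, h2]
    rfl
  have h4 := cF_unique hc h3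
  subst h4
  intro i hi
  have h5 : ∀ i < 23, ft.getD i 0 < 23 ∧ ap B3 493 (T.getD i 0) = T.getD (ft.getD i 0) 0 := by decide +kernel
  rw [h.pow_smul i hi, hap', (h5 i hi).2, ← h.pow_smul _ (h5 i hi).1]

/-- the images of the points under the involution of `L2(23)` -/
theorem z_pts {z : G} (hz : z * y = y ^ 10 * z) (hz' : y * z = z * y ^ 10) (hz2 : z * z = 1)
    (hrel : z * x * z * x = x ^ 22 * z) :
    z • v = v ∧ ∀ i < 23, 0 < i → z • (x ^ i • v) = v + x ^ (zt.getD i 0) • v := by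
  obtain ⟨c, hc, hcv⟩ := h.surj (z • (x • v))
  have hzv := h.semi_fix hz'
  have hap := h.smul_semi hz (e' := 10) (by norm_num) okB10 rfl hcv.symm
  have hap' : ∀ a, z • vl (us x v) a = vl (us x v) (ap B10 c a) := hap
  have hlt : ∀ a, ap B10 c a < 2048 := by
    intro a
    unfold ap
    apply lin_lt (n := 11)
    intro d hd
    rw [sqs_eq, List.mem_map] at hd
    obtain ⟨k, -, rfl⟩ := hd
    cases k with
    | zero => exact hc
    | succ k =>
      have : ∀ (k : ℕ) (a : ℕ), a < 2048 → sqp a k < 2048 := by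
        intro k
        induction k with
        | zero => intro a ha; exact ha
        | succ k ih => intro a _; exact ih _ (lin_lt (n := 11) _ (by decide +kernel) _)
      exact this _ _ hc
  have h1 : lin (sqs 11 c) 2047 = 1 := by
    have h2 := hap' 1
    rw [one_vl, hzv] at h2
    have h3 : ap B10 c 1 = 1 := h.inj (hlt _) (by norm_num) (by rw [← h2, one_vl])
    have h4 : ap B10 c 1 = lin (sqs 11 c) 2047 := rfl
    rw [← h4, h3]
  have h2 : ap B10 c (lin (mc 1) c) = 1594 := by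
    apply h.inj (hlt _) (by norm_num)
    rw [← hap', ← h.smul_x, hcv, show (1594 : ℕ) = T.getD 22 0 from rfl, ← h.pow_smul 22 (by norm_num)]
    have h5 := congrArg (fun g : G => g • v) hrel
    simp only [mul_smul] at h5
    rw [hzv] at h5
    exact h5
  have h2' : ap B10 c c = 2 := by
    apply h.inj (hlt _) (by norm_num)
    rw [← hap', hcv, ← mul_smul, hz2, one_smul, h.x_vl]
  have h3 : relZ c = true := by
    unfold relZ
    rw [h1, h2, h2']
    rfl
  have h4 := cZ_unique hc h3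
  subst h4
  refine ⟨hzv, ?_⟩
  intro i hi hi0
  have h5 : ∀ i < 23, 0 < i → zt.getD i 0 < 23 ∧ ap B10 1595 (T.getD i 0) = 1 ^^^ T.getD (zt.getD i 0) 0 := by
    decide +kernel
  rw [h.pow_smul i hi, hap', (h5 i hi hi0).2, vl_xor h.two, one_vl, ← h.pow_smul _ (h5 i hi hi0).1]

theorem y_pow_fix {g : G} {k : ℕ} (hg : g = y ^ k) (hg1 : g ≠ 1) {w : V} (hw : g • w = w) : y • w = w := by
  have hy1 : orderOf y = 11 := by
    rcases (Nat.dvd_prime (by norm_num : Nat.Prime 11)).1 (orderOf_dvd_of_pow_eq_one h.hy) with h1 | h1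
    · rw [orderOf_eq_one_iff] at h1
      exact absurd (by rw [hg, h1, one_pow]) hg1
    · exact h1
  have hcop : Nat.Coprime k 11 := by
    rw [Nat.coprime_comm, Nat.Prime.coprime_iff_not_dvd (by norm_num)]
    rintro ⟨m, rfl⟩
    apply hg1
    rw [hg, pow_mul, h.hy, one_pow]
  obtain ⟨m, hm⟩ := Nat.exists_mul_mod_eq_one_of_coprime hcop (by norm_num)
  have h2 : y = g ^ m := by
    rw [hg, ← pow_mul, h.y_mod, hm.2, pow_one]
  have h3 : ∀ j : ℕ, g ^ j • w = w := by
    intro j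
    induction j with
    | zero => simp
    | succ j ih => rw [pow_succ, mul_smul, hw, ih]
  rw [h2]
  exact h3 m

/-- a non-zero vector fixed by an element of order 11 of `P` is an image of `v` -/
theorem fixed_mem {P : Subgroup G} [Finite P] (hyP : y ∈ P) (hr2 : ¬ 11 ^ 2 ∣ Nat.card P) {a : G} (haP : a ∈ P)
    (ha : a ^ 11 = 1) (ha1 : a ≠ 1) (hy1 : y ≠ 1) {w : V} (hw0 : w ≠ 0) (hw : a • w = w) :
    ∃ t ∈ P, w = t • v := by
  have : Fact (Nat.Prime 11) := ⟨by norm_num⟩
  have h1 : orderOf (⟨a, haP⟩ : P) = 11 := orderOf_eq_prime (Subtype.ext ha) (fun h => ha1 (congrArg Subtype.val h))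
  have h2 : orderOf (⟨y, hyP⟩ : P) = 11 := orderOf_eq_prime (Subtype.ext h.hy) (fun h => hy1 (congrArg Subtype.val h))
  obtain ⟨t, k, htk⟩ := exists_conj_pow hr2 h1 h2
  have h3 : (t : G) * a * (t : G)⁻¹ = y ^ k := congrArg Subtype.val htk
  have h4 : (t : G) * a * (t : G)⁻¹ ≠ 1 := by
    intro h5
    apply ha1
    have : a = (t : G)⁻¹ * ((t : G) * a * (t : G)⁻¹) * t := by group
    rw [this, h5]
    group
  have h5 : y • ((t : G) • w) = (t : G) • w := by
    apply h.y_pow_fix h3 h4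
    rw [← mul_smul, inv_mul_cancel_right, mul_smul, hw]
  rcases h.uniq _ h5 with h6 | h6
  · exfalso
    apply hw0
    rw [← smul_zero (t : G)] at h6
    exact smul_left_cancel _ h6
  · exact ⟨(t : G)⁻¹, P.inv_mem t.2, by rw [← h6, inv_smul_smul]⟩

theorem y_ne_one : y ≠ 1 := by
  rintro rfl
  obtain ⟨w, hw⟩ := h.hxn
  apply hw
  have h1 := h.hxy
  rw [one_mul, mul_one] at h1
  have h2 : x = 1 := by
    have : x = x⁻¹ * x ^ 2 := by group
    rw [this, ← h1, inv_mul_cancel]
  rw [h2, one_smul]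

theorem x_mem_J : x ∈ h.J := by
  have hmod : ∀ i : ℕ, x ^ i • v = x ^ (i % 23) • v := by
    intro i
    conv_lhs => rw [← Nat.div_add_mod i 23, pow_add, pow_mul, h.hx, one_pow, one_mul]
  rintro w ⟨i, hi, rfl | ⟨j, hj, hij, rfl⟩⟩
  · rw [← mul_smul, ← pow_succ', hmod]
    exact pt_mem (Nat.mod_lt _ (by norm_num))
  · rw [smul_add, ← mul_smul, ← pow_succ', ← mul_smul, ← pow_succ', hmod (i + 1), hmod (j + 1)]
    exact duad_mem (Nat.mod_lt _ (by norm_num)) (Nat.mod_lt _ (by norm_num)) (by omega)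

/-- **`M23` in `GL_11(2)`**: not maximal -/
theorem kill23 (hfull : ∀ E : V ≃+ V, ∃ g : G, ∀ w, g • w = E w) {H P : Subgroup G} [Finite P] (hPH : P ≤ H)
    (hN : ∀ g ∈ H, ∀ a ∈ P, g * a * g⁻¹ ∈ P) (hmax : ∀ M : Subgroup G, H ≤ M → M = H ∨ M = ⊤) {f : G}
    (hP : P = Subgroup.closure {x, f}) (hyP : y ∈ P) (hf : f * y = y ^ 3 * f) (hf' : y * f = f * y ^ 4)
    (hrel : f * x ^ 8 * f ^ 3 * x ^ 22 * f ^ 4 * x ^ 4 = x ^ 5 * (y ^ 10 * f ^ 4))
    (hr2 : ¬ 11 ^ 2 ∣ Nat.card P) : False := by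
  have hfin := h.finite
  have hfp := h.f_pts hf hf' hrel
  have hmod : ∀ i : ℕ, x ^ i • v = x ^ (i % 23) • v := by
    intro i
    conv_lhs => rw [← Nat.div_add_mod i 23, pow_add, pow_mul, h.hx, one_pow, one_mul]
  -- the points
  let K : Subgroup G :=
    { carrier := {g | ∀ w : V, (∃ i < 23, w = x ^ i • v) → ∃ i < 23, g • w = x ^ i • v}
      one_mem' := by rintro w ⟨i, hi, rfl⟩; exact ⟨i, hi, one_smul _ _⟩
      mul_mem' := by
        intro a b ha hb w hw
        rw [mul_smul]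
        exact ha _ (hb _ hw)
      inv_mem' := by
        intro a ha w hw
        have h1 : Function.Injective (fun u : {w : V // ∃ i < 23, w = x ^ i • v} =>
            (⟨a • u.1, ha _ u.2⟩ : {w : V // ∃ i < 23, w = x ^ i • v})) := by
          intro u u' huu
          apply Subtype.ext
          exact smul_left_cancel a (congrArg Subtype.val huu)
        obtain ⟨⟨u, hu⟩, hu'⟩ := Finite.injective_iff_surjective.1 h1 ⟨w, hw⟩
        have h2 : a • u = w := congrArg Subtype.val hu'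
        obtain ⟨i, hi, rfl⟩ := hu
        exact ⟨i, hi, by rw [← h2, inv_smul_smul]⟩ }
  have hPK : P ≤ K := by
    rw [hP, Subgroup.closure_le]
    rintro g (rfl | rfl)
    · rintro w ⟨i, hi, rfl⟩
      exact ⟨(i + 1) % 23, Nat.mod_lt _ (by norm_num), by rw [← mul_smul, ← pow_succ', hmod]⟩
    · rintro w ⟨i, hi, rfl⟩
      have h4 : ∀ i < 23, ft.getD i 0 < 23 := by decide +kernel
      exact ⟨ft.getD i 0, h4 i hi, hfp i hi⟩
  have hvp : ∃ i < 23, v = x ^ i • v := ⟨0, by norm_num, by rw [pow_zero, one_smul]⟩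
  have hxP : x ∈ P := by rw [hP]; exact Subgroup.subset_closure (by simp)
  have hHK : H ≤ K := by
    rintro g hg w ⟨i, hi, rfl⟩
    have h1 : g * (x ^ i * y * (x ^ i)⁻¹) * g⁻¹ ∈ P :=
      hN g hg _ (P.mul_mem (P.mul_mem (P.pow_mem hxP i) hyP) (P.inv_mem (P.pow_mem hxP i)))
    obtain ⟨t, ht, hwt⟩ := h.fixed_mem hyP hr2 h1 (by
        rw [conj_pow, conj_pow, h.hy]; group) (by
        intro h2
        apply h.y_ne_one
        have : y = (x ^ i)⁻¹ * g⁻¹ * (g * (x ^ i * y * (x ^ i)⁻¹) * g⁻¹) * g * x ^ i := by group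
        rw [this, h2]
        group) h.y_ne_one (w := g • (x ^ i • v)) (by
        intro h2
        apply h.ne
        rw [← smul_zero g] at h2
        have h3 := smul_left_cancel g h2
        rw [← smul_zero (x ^ i)] at h3
        exact smul_left_cancel _ h3) (by
        rw [← mul_smul, ← mul_smul, show g * (x ^ i * y * (x ^ i)⁻¹) * g⁻¹ * g * x ^ i = g * x ^ i * y by group,
          mul_smul, mul_smul, h.fix])
    obtain ⟨j, hj, hj'⟩ := hPK ht v hvp
    exact ⟨j, hj, by rw [hwt, hj']⟩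
  have hHJ : H ≤ h.J := by
    rintro g hg w ⟨i, hi, rfl | ⟨j, hj, hij, rfl⟩⟩
    · obtain ⟨k, hk, hk'⟩ := hHK hg _ ⟨i, hi, rfl⟩
      rw [hk']
      exact pt_mem hk
    · obtain ⟨k, hk, hk'⟩ := hHK hg _ ⟨i, hi, rfl⟩
      obtain ⟨l, hl, hl'⟩ := hHK hg _ ⟨j, hj, rfl⟩
      rw [smul_add, hk', hl']
      apply duad_mem hk hl
      rintro rfl
      rw [← hl'] at hk'
      exact hij (h.pt_inj hi hj (smul_left_cancel g hk'))
  rcases hmax h.J hHJ with h1 | h1
  · obtain ⟨E, hE0, hE⟩ := h.exists_Z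
    obtain ⟨g, hg⟩ := hfull E
    have h2 : g ∈ h.J := h.Z_mem (by rw [hg, hE0]) (fun i hi hi0 => by rw [hg, hE i hi hi0])
    rw [h1] at h2
    obtain ⟨k, hk, hk'⟩ := hHK h2 _ ⟨1, by norm_num, rfl⟩
    rw [hg, hE 1 (by norm_num) (by norm_num)] at hk'
    have h3 := h.pt_ne_duad (i := 0) (j := zt.getD 1 0) (k := k) (by norm_num) (by decide) hk
    rw [pow_zero, one_smul] at h3
    exact h3 hk'.symm
  · obtain ⟨E, hE⟩ := h.exists_U
    obtain ⟨g, hg⟩ := hfull E
    apply h.U_not_mem (g := g) (fun w => by rw [hg, hE])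
    rw [h1]
    exact Subgroup.mem_top _

/-- **`L2(23)` in `GL_11(2)`**: not maximal -/
theorem killL2 (hfaith : ∀ g : G, (∀ w : V, g • w = w) → g = 1)
    (hfull : ∀ E : V ≃+ V, ∃ g : G, ∀ w, g • w = E w) {H P : Subgroup G} [Finite P] (hPH : P ≤ H)
    (hN : ∀ g ∈ H, ∀ a ∈ P, g * a * g⁻¹ ∈ P) (hmax : ∀ M : Subgroup G, H ≤ M → M = H ∨ M = ⊤) {z : G}
    (hP : P = Subgroup.closure {x, z}) (hyP : y ∈ P) (hz : z * y = y ^ 10 * z) (hz' : y * z = z * y ^ 10)
    (hz2 : z * z = 1) (hrel : z * x * z * x = x ^ 22 * z) (hr2 : ¬ 11 ^ 2 ∣ Nat.card P)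
    (h5 : ¬ 5 ∣ Nat.card P) : False := by
  have hfin := h.finite
  obtain ⟨hzv, hzp⟩ := h.z_pts hz hz' hz2 hrel
  have hmod : ∀ i : ℕ, x ^ i • v = x ^ (i % 23) • v := by
    intro i
    conv_lhs => rw [← Nat.div_add_mod i 23, pow_add, pow_mul, h.hx, one_pow, one_mul]
  have hxP : x ∈ P := by rw [hP]; exact Subgroup.subset_closure (by simp)
  have hzP : z ∈ P := by rw [hP]; exact Subgroup.subset_closure (by simp)
  have hPJ : P ≤ h.J := by
    rw [hP, Subgroup.closure_le]
    rintro g (rfl | rfl)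
    · exact h.x_mem_J
    · exact h.Z_mem hzv hzp
  -- `D` is the orbit of `v`
  have hD : ∀ w ∈ D x v, ∃ t ∈ P, w = t • v := by
    have h4 : ∀ i < 23, 0 < i → zt.getD i 0 < 23 ∧ 0 < zt.getD i 0 ∧ zt.getD (zt.getD i 0) 0 = i := by
      decide +kernel
    have h6 : ∀ k < 23, 0 < k → ∃ t ∈ P, v + x ^ k • v = t • v := by
      intro k hk hk0
      refine ⟨z * x ^ (zt.getD k 0), P.mul_mem hzP (P.pow_mem hxP _), ?_⟩
      rw [mul_smul, hzp _ (h4 k hk hk0).1 (h4 k hk hk0).2.1, (h4 k hk hk0).2.2]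
    rintro w ⟨i, hi, rfl | ⟨j, hj, hij, rfl⟩⟩
    · exact ⟨x ^ i, P.pow_mem hxP i, rfl⟩
    · obtain ⟨t, ht, htv⟩ := h6 ((j + 23 - i) % 23) (Nat.mod_lt _ (by norm_num)) (by omega)
      refine ⟨x ^ i * t, P.mul_mem (P.pow_mem hxP i) ht, ?_⟩
      rw [mul_smul, ← htv, smul_add, ← mul_smul, ← pow_add, hmod (i + (j + 23 - i) % 23)]
      have : (i + (j + 23 - i) % 23) % 23 = j := by omega
      rw [this]
  have hHJ : H ≤ h.J := by
    intro g hg w hw
    obtain ⟨t, ht, rfl⟩ := hD w hw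
    have h1 : g * (t * y * t⁻¹) * g⁻¹ ∈ P := hN g hg _ (P.mul_mem (P.mul_mem ht hyP) (P.inv_mem ht))
    obtain ⟨s, hs, hws⟩ := h.fixed_mem hyP hr2 h1 (by
        rw [conj_pow, conj_pow, h.hy]; group) (by
        intro h2
        apply h.y_ne_one
        have : y = t⁻¹ * g⁻¹ * (g * (t * y * t⁻¹) * g⁻¹) * g * t := by group
        rw [this, h2]
        group) h.y_ne_one (w := g • (t • v)) (by
        intro h2
        apply h.ne
        rw [← smul_zero g] at h2
        have h3 := smul_left_cancel g h2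
        rw [← smul_zero t] at h3
        exact smul_left_cancel _ h3) (by
        rw [← mul_smul, ← mul_smul, show g * (t * y * t⁻¹) * g⁻¹ * g * t = g * t * y by group,
          mul_smul, mul_smul, h.fix])
    rw [hws]
    exact hPJ hs _ h.v_mem
  rcases hmax h.J hHJ with h1 | h1
  · obtain ⟨E, hE⟩ := h.exists_F
    obtain ⟨g, hg⟩ := hfull E
    have hgp : ∀ i < 23, g • (x ^ i • v) = x ^ (ft.getD i 0) • v := fun i hi => by rw [hg, hE i hi]
    have h2 : g ∈ h.J := h.F_mem hgp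
    rw [h1] at h2
    -- the element of order 5
    have h3 : x ^ 2 * (g * x * g⁻¹) ∈ P := P.mul_mem (P.pow_mem hxP 2) (hN g h2 x hxP)
    have hinv : ∀ i < 23, g⁻¹ • (x ^ (ft.getD i 0) • v) = x ^ i • v := by
      intro i hi
      rw [← hgp i hi, inv_smul_smul]
    have hW : ∀ i < 23, (x ^ 2 * (g * x * g⁻¹)) • (x ^ (ft.getD i 0) • v) =
        x ^ (ft.getD (([20, 7, 0, 4, 1, 18, 5, 21, 11, 19, 22, 6, 9, 13, 2, 15, 14, 17, 8, 10, 16, 3, 12].map
          fun j => ft.idxOf j).getD (ft.getD i 0) 0) 0) • v := by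
      intro i hi
      have h6 : ∀ i < 23, (2 + ft.getD ((i + 1) % 23) 0) % 23 =
          ft.getD (([20, 7, 0, 4, 1, 18, 5, 21, 11, 19, 22, 6, 9, 13, 2, 15, 14, 17, 8, 10, 16, 3, 12].map
          fun j => ft.idxOf j).getD (ft.getD i 0) 0) 0 := by decide +kernel
      rw [← h6 i hi, ← hmod, mul_smul, mul_smul, mul_smul, hinv i hi, ← mul_smul x, ← pow_succ', hmod (i + 1),
        hgp _ (Nat.mod_lt _ (by norm_num)), ← mul_smul, ← pow_add]
    have hft : ∀ j < 23, ∃ i < 23, ft.getD i 0 = j := by decide +kernel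
    have hW' : ∀ j < 23, (x ^ 2 * (g * x * g⁻¹)) • (x ^ j • v) =
        x ^ ([20, 7, 0, 4, 1, 18, 5, 21, 11, 19, 22, 6, 9, 13, 2, 15, 14, 17, 8, 10, 16, 3, 12].getD j 0) • v := by
      intro j hj
      obtain ⟨i, hi, rfl⟩ := hft j hj
      rw [hW i hi]
      have h6 : ∀ j < 23, ft.getD (([20, 7, 0, 4, 1, 18, 5, 21, 11, 19, 22, 6, 9, 13, 2, 15, 14, 17, 8, 10, 16, 3,
        12].map fun j => ft.idxOf j).getD j 0) 0 =
        [20, 7, 0, 4, 1, 18, 5, 21, 11, 19, 22, 6, 9, 13, 2, 15, 14, 17, 8, 10, 16, 3, 12].getD j 0 := by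
        decide +kernel
      rw [h6 _ hj]
    set W : G := x ^ 2 * (g * x * g⁻¹) with hWdef
    set wl : List ℕ := [20, 7, 0, 4, 1, 18, 5, 21, 11, 19, 22, 6, 9, 13, 2, 15, 14, 17, 8, 10, 16, 3, 12] with hwl
    have hit : ∀ n : ℕ, ∀ i < 23, W ^ n • (x ^ i • v) = x ^ ((fun i => wl.getD i 0)^[n] i) • v := by
      intro n
      induction n with
      | zero => intro i _; rw [pow_zero, one_smul]; rfl
      | succ n ih =>
        intro i hi
        have h7 : ∀ i < 23, wl.getD i 0 < 23 := by rw [hwl]; decide +kernel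
        rw [Function.iterate_succ_apply, pow_succ, mul_smul, hW' i hi, ih _ (h7 i hi)]
    have hW5 : W ^ 5 = 1 := by
      apply hfaith
      have h8 : act (V := V) (W ^ 5) = AddMonoidHom.id V := by
        apply h.ext_hom
        intro i hi
        have h9 := hit 5 i (by omega)
        have h10 : ∀ i < 23, (fun i => wl.getD i 0)^[5] i = i := by rw [hwl]; decide +kernel
        rw [h10 i (by omega)] at h9
        exact h9
      intro w
      exact DFunLike.congr_fun h8 w
    have hW1 : W ≠ 1 := by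
      intro h8
      have h9 := hW' 0 (by norm_num)
      rw [h8, one_smul] at h9
      have := h.pt_inj (by norm_num) (by rw [hwl]; decide) h9
      rw [hwl] at this
      revert this
      decide
    apply h5
    have : Fact (Nat.Prime 5) := ⟨by norm_num⟩
    have h8 : orderOf (⟨W, h3⟩ : P) = 5 :=
      orderOf_eq_prime (Subtype.ext hW5) (fun h => hW1 (congrArg Subtype.val h))
    rw [← h8]
    exact orderOf_dvd_natCard _
  · obtain ⟨E, hE⟩ := h.exists_U
    obtain ⟨g, hg⟩ := hfull E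
    apply h.U_not_mem (g := g) (fun w => by rw [hg, hE])
    rw [h1]
    exact Subgroup.mem_top _

end Fm

end Cfsg.Agent.H4.LDM
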