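import Cfsg.Agent.H4.LDM.Cls
import Cfsg.Agent.H921.SporMore
import Cfsg.Agent.SporadicA.MathieuRecog
import Cfsg.Agent.SporadicA.M24Trans

/-!
# Classes of subgroups of `M24` by packed permutations

`Pk T` : elements of a subgroup `T` of `M24` by packed permutations.
-/

set_option autoImplicit false

namespace Cfsg.Agent.H4.LDM.Pk

open Cfsg Cfsg.Agent.SporadicA.GolayBase Cfsg.Agent.SporadicA.GolayPerm
open Cfsg.Agent.SporadicStructure.M24El Cfsg.Agent.H921.Spor.M24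
open Cfsg.Agent.H4.LDM Cfsg.Agent.H4.LDM.Cls

/-- Elements of a subgroup of `M24` by packed permutations. -/
structure Pk (T : Type*) [Group T] where
  φ : T →* M24
  inj : Function.Injective φ
  okT : ℕ → Bool
  e : ℕ → T
  okT_ok : ∀ P, okT P = true → ok P = true
  φ_e : ∀ P, okT P = true → φ (e P) = el P

variable {T : Type*} [Group T] (K : Pk T)

/-- `M24` itself -/
noncomputable def pk24 : Pk M24 := ⟨MonoidHom.id _, Function.injective_id, ok, el, fun _ h => h, fun _ _ => rfl⟩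

open Classical in
/-- `M23` -/
noncomputable def pk23 : Pk Spor.M23 where
  φ := Subgroup.inclusion M23_le
  inj := Subgroup.inclusion_injective M23_le
  okT := fun P => ok P && Nat.beq (papp P 23) 23
  e := fun P => if h : (ok P && Nat.beq (papp P 23) 23) = true then ⟨(el P : Equiv.Perm GolayPt), mem_M23 h⟩ else 1
  okT_ok := fun P h => by
    rw [Bool.and_eq_true] at h
    exact h.1
  φ_e := fun P h => by
    rw [dif_pos h]
    rfl

variable {K}

theorem Pk.mul_eq {A B C D : ℕ} (hA : K.okT A = true) (hB : K.okT B = true) (hC : K.okT C = true)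
    (hD : K.okT D = true) (h : pcomp A B = pcomp C D) : K.e A * K.e B = K.e C * K.e D := by
  apply K.inj
  rw [map_mul, map_mul, K.φ_e _ hA, K.φ_e _ hB, K.φ_e _ hC, K.φ_e _ hD, ← el_pcomp (K.okT_ok _ hA) (K.okT_ok _ hB),
    ← el_pcomp (K.okT_ok _ hC) (K.okT_ok _ hD), h]

theorem Pk.mul_eq' {A B C : ℕ} (hA : K.okT A = true) (hB : K.okT B = true) (hC : K.okT C = true)
    (h : pcomp A B = C) : K.e A * K.e B = K.e C := by
  apply K.inj
  rw [map_mul, K.φ_e _ hA, K.φ_e _ hB, K.φ_e _ hC, ← el_pcomp (K.okT_ok _ hA) (K.okT_ok _ hB), h]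

theorem Pk.sq {A D : ℕ} (hA : K.okT A = true) (hD : K.okT D = true) (h : pcomp D A = pcomp (pcomp A A) D) :
    K.e D * K.e A * (K.e D)⁻¹ = K.e A ^ 2 := by
  rw [mul_inv_eq_iff_eq_mul]
  apply K.inj
  have hA' := K.okT_ok _ hA
  have hD' := K.okT_ok _ hD
  rw [map_mul, map_mul, map_pow, K.φ_e _ hA, K.φ_e _ hD, ← el_pcomp hD' hA', h, el_pcomp (ok_pcomp hA' hA') hD',
    el_pcomp hA' hA', pow_two]

theorem Pk.pow_one {A r : ℕ} (hA : K.okT A = true) (h : ppow A r = idP) : K.e A ^ r = 1 := by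
  apply K.inj
  rw [map_pow, map_one, K.φ_e _ hA, ← el_ppow (K.okT_ok _ hA), h, el_idP]

theorem Pk.ne_one {A i : ℕ} (hA : K.okT A = true) (hi : i < 24) (h : papp A i ≠ i) : K.e A ≠ 1 := by
  intro h1
  apply el_ne_one (K.okT_ok _ hA) hi h
  rw [← K.φ_e _ hA, h1, map_one]

theorem Pk.order {A r i : ℕ} (hr : r.Prime) (hA : K.okT A = true) (h : ppow A r = idP) (hi : i < 24)
    (h' : papp A i ≠ i) : orderOf (K.e A) = r := by
  have : Fact r.Prime := ⟨hr⟩
  exact orderOf_eq_prime (Pk.pow_one hA h) (Pk.ne_one hA hi h')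

theorem card_GolayPt : Fintype.card GolayPt = 24 := by decide

/-- no element of order `r p` -/
theorem Pk.no_pair [Finite T] {r p : ℕ} (hr : r.Prime) (hp : p.Prime) (hrp : r ≠ p) (hr2 : ¬ r ^ 2 ∣ Nat.card T)
    {B : ℕ} (hB : K.okT B = true) (hb : orderOf (K.e B) = r) (hlt : 24 < r * p)
    (hfix : (Finset.univ.filter fun a : GolayPt => (el B : Equiv.Perm GolayPt) a = a).card < p) (g : T) :
    ¬ r * p ∣ orderOf g := by
  rintro ⟨m, hm⟩
  have : Fact r.Prime := ⟨hr⟩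
  have : Fact p.Prime := ⟨hp⟩
  have hg0 : orderOf g ≠ 0 := (orderOf_pos g).ne'
  have hm0 : m ≠ 0 := by rintro rfl; exact hg0 (by rw [hm, mul_zero])
  have hh : orderOf (g ^ (p * m)) = r := by
    rw [orderOf_pow, hm, Nat.gcd_eq_right ⟨r, by ring⟩]
    exact Nat.div_eq_of_eq_mul_left (Nat.pos_of_ne_zero (mul_ne_zero hp.ne_zero hm0)) (by ring)
  have hu : orderOf (g ^ (r * m)) = p := by
    rw [orderOf_pow, hm, Nat.gcd_eq_right ⟨p, by ring⟩]
    exact Nat.div_eq_of_eq_mul_left (Nat.pos_of_ne_zero (mul_ne_zero hr.ne_zero hm0)) (by ring)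
  obtain ⟨t, k, ht⟩ := exists_conj_pow hr2 hh hb
  have hk : (K.e B) ^ k ≠ 1 := by
    intro h1
    rw [h1] at ht
    have h2 : g ^ (p * m) = 1 := by
      have : g ^ (p * m) = t⁻¹ * (t * g ^ (p * m) * t⁻¹) * t := by group
      rw [this, ht]; group
    rw [h2, orderOf_one] at hh
    exact hr.one_lt.ne hh
  have h3 : (t * g ^ (r * m) * t⁻¹) * K.e B = K.e B * (t * g ^ (r * m) * t⁻¹) := by
    apply comm_of_pow hb hk
    rw [← ht]
    calc t * g ^ (r * m) * t⁻¹ * (t * g ^ (p * m) * t⁻¹) = t * (g ^ (r * m) * g ^ (p * m)) * t⁻¹ := by group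
      _ = t * (g ^ (p * m) * g ^ (r * m)) * t⁻¹ := by rw [← pow_add, ← pow_add, add_comm]
      _ = t * g ^ (p * m) * t⁻¹ * (t * g ^ (r * m) * t⁻¹) := by group
  have h4 : K.φ (t * g ^ (r * m) * t⁻¹) = 1 := by
    apply Subtype.ext
    refine comm_trivial (Y := (el B : Equiv.Perm GolayPt)) hrp ?_ ?_ ?_ (by rw [card_GolayPt]; exact hlt) hfix
    · rw [← Subgroup.coe_pow, ← K.φ_e _ hB, ← map_pow, ← hb, pow_orderOf_eq_one, map_one, Subgroup.coe_one]
    · rw [← Subgroup.coe_pow, ← map_pow, conj_pow, ← hu, pow_orderOf_eq_one, mul_one, mul_inv_cancel, map_one,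
        Subgroup.coe_one]
    · rw [← Subgroup.coe_mul, ← Subgroup.coe_mul, ← K.φ_e _ hB, ← map_mul, ← map_mul, h3]
  have h5 : g ^ (r * m) = 1 := by
    have h6 := K.inj (h4.trans (map_one _).symm)
    have : g ^ (r * m) = t⁻¹ * (t * g ^ (r * m) * t⁻¹) * t := by group
    rw [this, h6]; group
  rw [h5, orderOf_one] at hu
  exact hp.one_lt.ne hu

theorem strip {n r m : ℕ} (hr : r.Prime) (h : n ∣ r * m) (hn : ¬ r ∣ n) : n ∣ m :=
  (Nat.Coprime.dvd_mul_left ((Nat.Prime.coprime_iff_not_dvd hr).2 hn).symm).1 h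

theorem both {n r p : ℕ} (hr : r.Prime) (hp : p.Prime) (hrp : r ≠ p) (h : ¬ r * p ∣ n) (hn : r ∣ n) : ¬ p ∣ n :=
  fun h' => h (Nat.Coprime.mul_dvd_of_dvd_of_dvd ((Nat.coprime_primes hr hp).2 hrp) hn h')

/-- possible odd orders -/
theorem order_cases {n : ℕ} (hn : n ∣ 244823040) (h2 : ¬ 2 ∣ n) (h9 : ¬ 9 ∣ n) (a3 : ¬ 23 * 3 ∣ n) (a5 : ¬ 23 * 5 ∣ n)
    (a7 : ¬ 23 * 7 ∣ n) (a11 : ¬ 23 * 11 ∣ n) (b3 : ¬ 11 * 3 ∣ n) (b5 : ¬ 11 * 5 ∣ n) (b7 : ¬ 11 * 7 ∣ n)
    (c7 : ¬ 5 * 7 ∣ n) : n = 1 ∨ n = 3 ∨ n = 5 ∨ n = 7 ∨ n = 11 ∨ n = 15 ∨ n = 21 ∨ n = 23 := by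
  have p3 : Nat.Prime 3 := by norm_num
  have p5 : Nat.Prime 5 := by norm_num
  have p7 : Nat.Prime 7 := by norm_num
  have p11 : Nat.Prime 11 := by norm_num
  have p23 : Nat.Prime 23 := by norm_num
  have h0 : n ∣ 239085 := by
    have h3 : Nat.Coprime n (2 ^ 10) := Nat.Coprime.pow_right 10 ((Nat.Prime.coprime_iff_not_dvd Nat.prime_two).2 h2).symm
    exact (h3.dvd_mul_left (n := 239085)).1 (by norm_num; exact hn)
  by_cases h23 : 23 ∣ n
  · have e3 := both p23 p3 (by norm_num) a3 h23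
    have e5 := both p23 p5 (by norm_num) a5 h23
    have e7 := both p23 p7 (by norm_num) a7 h23
    have e11 := both p23 p11 (by norm_num) a11 h23
    have h1 : n ∣ 23 := by
      have i1 := strip (m := 79695) p3 h0 e3
      have i2 := strip (m := 26565) p3 i1 e3
      have i3 := strip (m := 8855) p3 i2 e3
      have i4 := strip (m := 1771) p5 i3 e5
      have i5 := strip (m := 253) p7 i4 e7
      exact strip (m := 23) p11 i5 e11
    rcases (Nat.dvd_prime p23).1 h1 with h | h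
    · exact Or.inl h
    · simp [h]
  have h1 := strip (m := 10395) p23 h0 h23
  by_cases h11 : 11 ∣ n
  · have e3 := both p11 p3 (by norm_num) b3 h11
    have e5 := both p11 p5 (by norm_num) b5 h11
    have e7 := both p11 p7 (by norm_num) b7 h11
    have h1 : n ∣ 11 := by
      have i1 := strip (m := 3465) p3 h1 e3
      have i2 := strip (m := 1155) p3 i1 e3
      have i3 := strip (m := 385) p3 i2 e3
      have i4 := strip (m := 77) p5 i3 e5
      exact strip (m := 11) p7 i4 e7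
    rcases (Nat.dvd_prime p11).1 h1 with h | h
    · exact Or.inl h
    · simp [h]
  have h3 := strip (m := 945) p11 h1 h11
  by_cases h5 : 5 ∣ n
  · have e7 := both p5 p7 (by norm_num) c7 h5
    have i1 := strip (m := 135) p7 h3 e7
    have : ∀ m ∈ Nat.divisors 135, ¬ 9 ∣ m →
        m = 1 ∨ m = 3 ∨ m = 5 ∨ m = 7 ∨ m = 11 ∨ m = 15 ∨ m = 21 ∨ m = 23 := by decide +kernel
    exact this n (Nat.mem_divisors.2 ⟨i1, by norm_num⟩) h9
  · have i1 := strip (m := 189) p5 h3 h5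
    have : ∀ m ∈ Nat.divisors 189, ¬ 9 ∣ m →
        m = 1 ∨ m = 3 ∨ m = 5 ∨ m = 7 ∨ m = 11 ∨ m = 15 ∨ m = 21 ∨ m = 23 := by decide +kernel
    exact this n (Nat.mem_divisors.2 ⟨i1, by norm_num⟩) h9

/-! ### the Sylow 3-subgroup -/

/-- the elements packed in `L` are a group of exponent three -/
def chk (ok' : ℕ → Bool) (L : List ℕ) : Bool :=
  L.all (fun P => ok' P && Nat.beq (ppow P 3) idP && L.all fun Q => L.any fun R => Nat.beq (pcomp P Q) R) &&
  L.any (fun P => Nat.beq P idP)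

theorem chk_ok {ok' : ℕ → Bool} {L : List ℕ} (h : chk ok' L = true) {P : ℕ} (hP : P ∈ L) : ok' P = true := by
  unfold chk at h
  simp only [Bool.and_eq_true, List.all_eq_true] at h
  exact (h.1 P hP).1.1

theorem chk_cube {ok' : ℕ → Bool} {L : List ℕ} (h : chk ok' L = true) {P : ℕ} (hP : P ∈ L) : ppow P 3 = idP := by
  unfold chk at h
  simp only [Bool.and_eq_true, List.all_eq_true] at h
  exact Nat.eq_of_beq_eq_true (h.1 P hP).1.2

theorem chk_mul {ok' : ℕ → Bool} {L : List ℕ} (h : chk ok' L = true) {P Q : ℕ} (hP : P ∈ L) (hQ : Q ∈ L) :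
    pcomp P Q ∈ L := by
  unfold chk at h
  simp only [Bool.and_eq_true, List.all_eq_true, List.any_eq_true] at h
  obtain ⟨R, hR, h1⟩ := (h.1 P hP).2 Q hQ
  rw [Nat.eq_of_beq_eq_true h1]
  exact hR

theorem chk_one {ok' : ℕ → Bool} {L : List ℕ} (h : chk ok' L = true) : idP ∈ L := by
  unfold chk at h
  simp only [Bool.and_eq_true, List.any_eq_true] at h
  obtain ⟨R, hR, h1⟩ := h.2
  rw [← Nat.eq_of_beq_eq_true h1]
  exact hR

/-- the subgroup -/
def Pk.sub (K : Pk T) {L : List ℕ} (h : chk K.okT L = true) : Subgroup T where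
  carrier := {g | ∃ P ∈ L, g = K.e P}
  one_mem' := ⟨idP, chk_one h, K.inj (by rw [map_one, K.φ_e _ (chk_ok h (chk_one h)), el_idP])⟩
  mul_mem' := by
    rintro _ _ ⟨P, hP, rfl⟩ ⟨Q, hQ, rfl⟩
    exact ⟨pcomp P Q, chk_mul h hP hQ, Pk.mul_eq' (chk_ok h hP) (chk_ok h hQ) (chk_ok h (chk_mul h hP hQ)) rfl⟩
  inv_mem' := by
    rintro _ ⟨P, hP, rfl⟩
    refine ⟨pcomp P P, chk_mul h hP hP, ?_⟩
    rw [← Pk.mul_eq' (chk_ok h hP) (chk_ok h hP) (chk_ok h (chk_mul h hP hP)) rfl, inv_eq_iff_mul_eq_one]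
    have h1 := Pk.pow_one (K := K) (chk_ok h hP) (chk_cube h hP)
    rw [← pow_two, ← pow_succ', h1]

theorem Pk.mem_sub {L : List ℕ} (h : chk K.okT L = true) {g : T} : g ∈ K.sub h ↔ ∃ P ∈ L, g = K.e P := Iff.rfl

theorem Pk.isPGroup_sub {L : List ℕ} (h : chk K.okT L = true) : IsPGroup 3 (K.sub h) := by
  rintro ⟨g, hg⟩
  obtain ⟨P, hP, rfl⟩ := (Pk.mem_sub h).1 hg
  refine ⟨1, Subtype.ext ?_⟩
  rw [Subgroup.coe_pow, Subgroup.coe_one, _root_.pow_one]
  exact Pk.pow_one (chk_ok h hP) (chk_cube h hP)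

theorem Pk.le_card_sub [Finite T] {L : List ℕ} (h : chk K.okT L = true) (hnd : L.Nodup) {i j : ℕ} (hi : i < 24)
    (hj : j < 24) (hd : ∀ P ∈ L, ∀ Q ∈ L, papp P i = papp Q i → papp P j = papp Q j → P = Q) :
    L.length ≤ Nat.card (K.sub h) := by
  classical
  have h1 : Nat.card {P // P ∈ L.toFinset} = L.length := by
    rw [Nat.card_eq_fintype_card, Fintype.card_coe, List.toFinset_card_of_nodup hnd]
  rw [← h1]
  refine Nat.card_le_card_of_injective (fun P => (⟨K.e P.1, (Pk.mem_sub h).2 ⟨P.1, List.mem_toFinset.1 P.2, rfl⟩⟩ :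
    K.sub h)) ?_
  rintro ⟨P, hP⟩ ⟨Q, hQ⟩ hPQ
  have hP' := List.mem_toFinset.1 hP
  have hQ' := List.mem_toFinset.1 hQ
  have h2 : K.e P = K.e Q := congrArg Subtype.val hPQ
  have h3 : el P = el Q := by
    rw [← K.φ_e _ (chk_ok h hP'), ← K.φ_e _ (chk_ok h hQ'), h2]
  have h4 : ∀ i < 24, papp P i = papp Q i := by
    intro i hi
    have e1 := idx_el_smul (K.okT_ok _ (chk_ok h hP')) (pt i)
    have e2 := idx_el_smul (K.okT_ok _ (chk_ok h hQ')) (pt i)
    rw [idx_pt hi] at e1 e2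
    rw [← e1, ← e2, h3]
  exact Subtype.ext (hd P hP' Q hQ' (h4 i hi) (h4 j hj))

/-- every element of order a power of three is a conjugate of some `K.e P`, `P ∈ L` -/
theorem Pk.exists_conj3 [Finite T] {L : List ℕ} (h : chk K.okT L = true) (hnd : L.Nodup) {i j : ℕ} (hi : i < 24)
    (hj : j < 24) (hd : ∀ P ∈ L, ∀ Q ∈ L, papp P i = papp Q i → papp P j = papp Q j → P = Q) {a m : ℕ}
    (hT : Nat.card T = L.length * m) (hm : ¬ 3 ∣ m) (hL : L.length = 3 ^ a) {g : T} {k : ℕ} (hg : orderOf g = 3 ^ k) :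
    ∃ (t : T) (P : ℕ), P ∈ L ∧ t * g * t⁻¹ = K.e P := by
  have : Fact (Nat.Prime 3) := ⟨Nat.prime_three⟩
  have h1 := Pk.isPGroup_sub (K := K) h
  obtain ⟨b, hb⟩ := IsPGroup.iff_card.1 h1
  have h2 := Pk.le_card_sub (K := K) h hnd hi hj hd
  have h3 : (K.sub h).index * 3 ^ b = 3 ^ a * m := by rw [← hb, ← hL, ← hT, Subgroup.index_mul_card]
  have hab : a ≤ b := by
    rw [hb, hL] at h2
    exact (Nat.pow_le_pow_iff_right (by norm_num)).1 h2
  have hidx : ¬ 3 ∣ (K.sub h).index := by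
    intro h4
    obtain ⟨c, hc⟩ := Nat.exists_eq_add_of_le hab
    have h5 : m = (K.sub h).index * 3 ^ c := by
      apply Nat.eq_of_mul_eq_mul_left (show 0 < 3 ^ a by positivity)
      rw [← h3, hc, pow_add]; ring
    exact hm (h5 ▸ h4.mul_right _)
  obtain ⟨t, ht⟩ := exists_conj_mem h1 hidx hg
  obtain ⟨P, hP, h4⟩ := (Pk.mem_sub h).1 ht
  exact ⟨t, P, hP, h4⟩

/-- no element of order 9 -/
theorem Pk.no_nine [Finite T] {L : List ℕ} (h : chk K.okT L = true) (hnd : L.Nodup) {i j : ℕ} (hi : i < 24)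
    (hj : j < 24) (hd : ∀ P ∈ L, ∀ Q ∈ L, papp P i = papp Q i → papp P j = papp Q j → P = Q) {a m : ℕ}
    (hT : Nat.card T = L.length * m) (hm : ¬ 3 ∣ m) (hL : L.length = 3 ^ a) (g : T) : ¬ 9 ∣ orderOf g := by
  rintro ⟨c, hc⟩
  have hg0 : orderOf g ≠ 0 := (orderOf_pos g).ne'
  have hc0 : c ≠ 0 := by rintro rfl; exact hg0 (by rw [hc, mul_zero])
  have ho : orderOf (g ^ c) = 3 ^ 2 := by
    rw [orderOf_pow, hc, Nat.gcd_eq_right (dvd_mul_left c 9), Nat.mul_div_cancel _ (Nat.pos_of_ne_zero hc0)]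
    norm_num
  obtain ⟨t, P, hP, ht⟩ := Pk.exists_conj3 (K := K) h hnd hi hj hd hT hm hL ho
  have h1 := Pk.pow_one (K := K) (chk_ok h hP) (chk_cube h hP)
  rw [← ht, conj_pow] at h1
  have h2 : (g ^ c) ^ 3 = 1 := by
    have : (g ^ c) ^ 3 = t⁻¹ * (t * (g ^ c) ^ 3 * t⁻¹) * t := by group
    rw [this, h1]; group
  have h3 := orderOf_dvd_of_pow_eq_one h2
  rw [ho] at h3
  norm_num at h3

end Cfsg.Agent.H4.LDM.Pk
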