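import Cfsg.Agent.H4.LDM.Frame

/-!
# Elements normalising `⟨y⟩`

In a frame an element `f` with `f y^e' = y f` (and `f y^j = ..`) is determined by `f x v`: `smul_semi`.
Uniqueness for one relation: `cF_unique` (for `M23`).
-/

set_option autoImplicit false

namespace Cfsg.Agent.H4.LDM

/-- `[c, c², c⁴, …]` -/
def sqs : ℕ → ℕ → List ℕ
  | 0, _ => []
  | n + 1, c => c :: sqs n (lin sc c)

/-- the iterated square -/
def sqp (c : ℕ) : ℕ → ℕ
  | 0 => c
  | n + 1 => sqp (lin sc c) n

theorem sqs_eq (n c : ℕ) : sqs n c = (List.range n).map (sqp c) := by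
  induction n generalizing c with
  | zero => rfl
  | succ n ih =>
    rw [sqs, ih, List.range_succ_eq_map, List.map_cons, List.map_map]
    rfl

/-- semilinear map in coordinates: `B` are the powers of `t` in the basis, `c` the image of `t` -/
def ap (B : List ℕ) (c b : ℕ) : ℕ := lin (sqs 11 c) (lin B b)

/-- the powers of `t` in the basis `y^(4 k) t` -/
def B3 : List ℕ := [2047, 1, 8, 4, 64, 571, 32, 1896, 512, 16, 474]

/-- the powers of `t` in the basis `y^(10 k) t` -/
def B10 : List ℕ := [2047, 1, 1024, 8, 512, 1477, 4, 1814, 256, 64, 1762]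

/-- `B` contains the powers of `t` in the basis `y^(e k) t` -/
def okB (e : ℕ) (B : List ℕ) : Prop :=
  ∀ i < 11, lin ((List.range 11).map fun k => sqp 2 ((e * k) % 11)) (B.getD i 0) = 2 ^ i

theorem okB3 : okB 4 B3 := by unfold okB; decide +kernel
theorem okB10 : okB 10 B10 := by unfold okB; decide +kernel

theorem lin_zero (cs : List ℕ) : lin cs 0 = 0 := by
  induction cs with
  | nil => rfl
  | cons c cs ih => rw [lin_cons, Nat.zero_div, ih]; simp

theorem lin_map (B : List ℕ) (hB : B.length = 11) (cs : List ℕ) (b : ℕ) :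
    lin ((List.range 11).map fun i => lin cs (B.getD i 0)) b = lin cs (lin B b) := by
  have key : ∀ (B : List ℕ) (b : ℕ), lin (B.map (lin cs)) b = lin cs (lin B b) := by
    intro B
    induction B with
    | nil =>
      intro b
      rw [List.map_nil, lin_nil, lin_zero]
    | cons c B ih =>
      intro b
      rw [List.map_cons, lin_cons, lin_cons, lin_xor, ih]
      congr 1
      split_ifs
      · rfl
      · exact (lin_zero _).symm
  rw [← key]
  congr 1
  apply List.ext_getElem
  · simp [hB]
  · intro i h1 h2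
    rw [List.length_map] at h2
    rw [List.getElem_map, List.getElem_map, List.getElem_range, List.getD_eq_getElem _ _ h2]

namespace Fm

variable {V : Type*} [AddCommGroup V] {G : Type*} [Group G] [DistribMulAction G V] {x y : G} {v : V}
  (h : Fm V G x y v)

include h

theorem smul_yk (k a : ℕ) : y ^ k • vl (us x v) a = vl (us x v) (sqp a k) := by
  induction k generalizing a with
  | zero => simp [sqp]
  | succ k ih => rw [pow_succ, mul_smul, h.smul_y, ih, sqp]

theorem y_mod (k : ℕ) : y ^ k = y ^ (k % 11) := by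
  conv_lhs => rw [← Nat.div_add_mod k 11, pow_add, pow_mul, h.hy, one_pow, one_mul]

theorem semi_pow {f : G} {e e' : ℕ} (hf : f * y = y ^ e * f) (he : e * e' % 11 = 1) (k : ℕ) (hk : k < 11) (w : V) :
    f • (y ^ ((e' * k) % 11) • w) = y ^ k • (f • w) := by
  have h1 : ∀ j : ℕ, f * y ^ j = y ^ (e * j) * f := by
    intro j
    induction j with
    | zero => simp
    | succ j ih =>
      rw [pow_succ, ← mul_assoc, ih, mul_assoc, hf, ← mul_assoc, ← pow_add]
      ring_nf
  rw [← mul_smul, h1, mul_smul, h.y_mod]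
  congr 2
  rw [← Nat.mul_mod_mod, Nat.mod_mod, Nat.mul_mod_mod, ← mul_assoc, Nat.mul_mod, he, one_mul, Nat.mod_mod,
    Nat.mod_eq_of_lt hk]

theorem x_vl : x • v = vl (us x v) 2 := by
  have := vl_single (x := x) (v := v) 1 (by norm_num)
  rw [pow_one, pow_one] at this
  exact this.symm

theorem basis_eq {e : ℕ} {B : List ℕ} (hB : okB e B) :
    ∀ i < 11, vl ((List.range 11).map fun k => y ^ ((e * k) % 11) • (x • v)) (B.getD i 0) = x ^ i • v := by
  intro i hi
  have h1 := vl_lin h.two (AddMonoidHom.id V) (us := (List.range 11).map fun k => y ^ ((e * k) % 11) • (x • v))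
    (ws := us x v) (cs := (List.range 11).map fun k => sqp 2 ((e * k) % 11)) (by
      rw [List.forall₂_map_left_iff, List.forall₂_map_right_iff, List.forall₂_same]
      intro j hj
      rw [AddMonoidHom.id_apply, h.x_vl, h.smul_yk]) (B.getD i 0)
  rw [AddMonoidHom.id_apply] at h1
  rw [h1, ← vl_single i hi, hB i hi]

/-- **an element normalising `⟨y⟩` in coordinates** -/
theorem smul_semi {f : G} {e e' : ℕ} (hf : f * y = y ^ e * f) (he : e * e' % 11 = 1) {B : List ℕ} (hB : okB e' B)
    (hBl : B.length = 11) {c : ℕ} (hc : f • (x • v) = vl (us x v) c) (a : ℕ) :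
    f • vl (us x v) a = vl (us x v) (ap B c a) := by
  unfold ap
  rw [← lin_map B hBl]
  apply h.smul_vl
  intro i hi
  rw [← h.basis_eq hB i hi]
  apply vl_lin h.two (act f) (us := (List.range 11).map fun k => y ^ ((e' * k) % 11) • (x • v)) (ws := us x v)
    (cs := sqs 11 c)
  rw [sqs_eq, List.forall₂_map_left_iff, List.forall₂_map_right_iff, List.forall₂_same]
  intro j hj
  show f • (y ^ ((e' * j) % 11) • (x • v)) = _
  rw [h.semi_pow hf he j (List.mem_range.1 hj), hc, h.smul_yk]

/-- an element normalising `⟨y⟩` fixes `v` -/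
theorem semi_fix {f : G} {e : ℕ} (hf : y * f = f * y ^ e) : f • v = v := by
  have h1 : ∀ j : ℕ, y ^ j • v = v := by
    intro j
    induction j with
    | zero => simp
    | succ j ih => rw [pow_succ, mul_smul, h.fix, ih]
  rcases h.uniq (f • v) (by rw [← mul_smul, hf, mul_smul, h1]) with h2 | h2
  · exfalso
    apply h.ne
    rw [← smul_zero f] at h2
    exact smul_left_cancel f h2
  · exact h2

omit h in
theorem one_vl : vl (us x v) 1 = v := by
  have := vl_single (x := x) (v := v) 0 (by norm_num)
  rw [pow_zero, pow_zero, one_smul] at this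
  exact this

end Fm

/-- the relation for `M23` -/
def relF (c : ℕ) : Bool :=
  Nat.beq (lin (sqs 11 c) 2047) 1 &&
  Nat.beq (ap B3 c (lin (mc 8) (ap B3 c (ap B3 c (ap B3 c
    (lin (mc 22) (ap B3 c (ap B3 c (ap B3 c (ap B3 c 16)))))))))) 32

theorem cF_all : ∀ k < 8, ∀ c < 256, relF (256 * k + c) = true → 256 * k + c = 493 := by decide +kernel

theorem cF_unique {c : ℕ} (hc : c < 2048) (h : relF c = true) : c = 493 := by
  have h1 := cF_all (c / 256) (by omega) (c % 256) (by omega)
  rw [Nat.div_add_mod] at h1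
  exact h1 h

end Cfsg.Agent.H4.LDM
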