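import Cfsg.Agent.H4.LDM.Base

/-!
# No irreducible module of order `2 ^ 12` for `M23` or `M24`

`no_twelve` : a group of order dividing `|M24|` containing a Frobenius group `23:11` has no faithful irreducible
module of order `4096`.
-/

set_option autoImplicit false

namespace Cfsg.Agent.H4.LDM.Twelve

open Cfsg.Agent.H4.LDM

theorem arith' : ∀ k < 179, (23 * k + 1) ∣ 967680 → ((23 * k + 1) % 11 = 1 ∨ (23 * k + 1) % 11 = 2 ∨
    (23 * k + 1) % 11 = 3) → k = 0 ∨ k = 1 := by
  decide +kernel

theorem arith (N : ℕ) (hN : N < 4097) (h : N ∣ 967680) (h23 : N % 23 = 1)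
    (h11 : N % 11 = 1 ∨ N % 11 = 2 ∨ N % 11 = 3) : N = 1 ∨ N = 24 := by
  obtain ⟨k, rfl⟩ : ∃ k, N = 23 * k + 1 := ⟨N / 23, by omega⟩
  rcases arith' k (by omega) h h11 with h | h
  · left; omega
  · right; omega

variable {V G : Type*} [AddCommGroup V] [Group G] [DistribMulAction G V]

/-- the vectors fixed by `g` -/
def fixB (V : Type*) {G : Type*} [AddCommGroup V] [Group G] [DistribMulAction G V] (g : G) : AddSubgroup V where
  carrier := {v | g • v = v}
  zero_mem' := smul_zero g
  add_mem' := fun {a b} ha hb => by
    change g • (a + b) = a + b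
    rw [smul_add, show g • a = a from ha, show g • b = b from hb]
  neg_mem' := fun {a} ha => by
    change g • (-a) = -a
    rw [smul_neg, show g • a = a from ha]

theorem mem_fixB {g : G} {v : V} : v ∈ fixB V g ↔ g • v = v := Iff.rfl

theorem pow_fix {g : G} {v : V} (h : g • v = v) (k : ℕ) : g ^ k • v = v := by
  induction k with
  | zero => rw [pow_zero, one_smul]
  | succ k ih => rw [pow_succ, mul_smul, h, ih]

/-- order of the fixed space: a power of two congruent to `4096` -/
theorem card_fix (hc : Nat.card V = 4096) {g : G} {r a : ℕ} [hr : Fact r.Prime] (hg : g ^ r = 1)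
    (hg1 : ∃ v : V, g • v ≠ v) (ha : ∀ k < 12, (4096 % r = 2 ^ k % r) → 2 ^ k = a) : Nat.card (fixB V g) = a := by
  have hfin : Finite V := Nat.finite_of_card_ne_zero (by rw [hc]; norm_num)
  have h1 := card_modEq (α := V) hg Set.univ (fun _ _ => trivial)
  have h2 : Nat.card (Set.univ : Set V) = 4096 := by rw [Nat.card_univ, hc]
  have h3 : Nat.card {s : V // s ∈ (Set.univ : Set V) ∧ g • s = s} = Nat.card (fixB V g) := by
    apply Nat.card_congr
    exact Equiv.subtypeEquivRight fun v => by simp [mem_fixB]
  rw [h2, h3] at h1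
  have h4 : Nat.card (fixB V g) ∣ 2 ^ 12 := by
    have := AddSubgroup.card_addSubgroup_dvd_card (fixB V g)
    rw [hc] at this
    norm_num
    exact this
  obtain ⟨k, hk, h5⟩ := (Nat.dvd_prime_pow Nat.prime_two).1 h4
  have h6 : k ≠ 12 := by
    rintro rfl
    have h7 : fixB V g = ⊤ := AddSubgroup.eq_top_of_card_eq _ (by rw [h5, hc]; norm_num)
    obtain ⟨v, hv⟩ := hg1
    have : v ∈ fixB V g := by rw [h7]; exact AddSubgroup.mem_top v
    exact hv this
  rw [h5]
  rw [h5] at h1
  exact ha k (by omega) h1

theorem no_twelve [Finite G] (hV : ∀ v : V, v + v = 0) (hc : Nat.card V = 4096) (hG : Nat.card G ∣ 244823040)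
    (hirr : ∀ W : AddSubgroup V, (∀ g : G, ∀ w ∈ W, g • w ∈ W) → W = ⊥ ∨ W = ⊤) {x y : G} (hx : x ^ 23 = 1)
    (hx1 : ∃ v : V, x • v ≠ v) (hy : y ^ 11 = 1) (hy1 : ∃ v : V, y • v ≠ v) (hyx : y * x = x ^ 2 * y) : False := by
  classical
  have hfin : Finite V := Nat.finite_of_card_ne_zero (by rw [hc]; norm_num)
  have : Fact (Nat.Prime 23) := ⟨by norm_num⟩
  have : Fact (Nat.Prime 11) := ⟨by norm_num⟩
  -- no fixed vector
  have hG0 : ∀ v : V, (∀ g : G, g • v = v) → v = 0 := by
    intro v hv
    let W : AddSubgroup V :=
      { carrier := {v | ∀ g : G, g • v = v}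
        zero_mem' := fun g => smul_zero g
        add_mem' := fun {a b} ha hb g => by rw [smul_add, ha g, hb g]
        neg_mem' := fun {a} ha g => by rw [smul_neg, ha g] }
    rcases hirr W (fun g w hw g' => by
      have hw' : ∀ g : G, g • w = w := hw
      rw [hw' g, hw' g']) with h | h
    · have : v ∈ W := hv
      rw [h] at this
      exact AddSubgroup.mem_bot.1 this
    · exfalso
      obtain ⟨u, hu⟩ := hx1
      have : u ∈ W := by rw [h]; exact AddSubgroup.mem_top u
      exact hu (this x)
  -- the fixed vector of `x`
  have hcx : Nat.card (fixB V x) = 2 := card_fix hc hx hx1 (by decide +kernel)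
  have hcy : Nat.card (fixB V y) = 4 := card_fix hc hy hy1 (by decide +kernel)
  obtain ⟨w, hw, hw0⟩ : ∃ w ∈ fixB V x, w ≠ 0 := by
    by_contra h
    push Not at h
    have : fixB V x = ⊥ := by
      rw [eq_bot_iff]
      intro v hv
      exact AddSubgroup.mem_bot.2 (h v hv)
    rw [this, AddSubgroup.card_bot] at hcx
    norm_num at hcx
  have huniq : ∀ v ∈ fixB V x, v ≠ 0 → v = w := by
    intro v hv hv0
    by_contra hvw
    have h1 : ({0, w, v} : Finset V).card ≤ 2 := by
      rw [← hcx, ← Nat.card_eq_finsetCard]
      apply Nat.card_le_card_of_injective (fun a => (⟨a.1, by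
        have := a.2
        simp only [Finset.mem_insert, Finset.mem_singleton] at this
        rcases this with h | h | h
        · rw [h]; exact (fixB V x).zero_mem
        · rw [h]; exact hw
        · rw [h]; exact hv⟩ : fixB V x))
      intro a b hab
      have hab' := congrArg Subtype.val hab
      exact Subtype.ext hab'
    rw [Finset.card_insert_of_notMem (by simp [hw0.symm, hv0.symm]), Finset.card_insert_of_notMem (by
      simpa using fun h => hvw h.symm), Finset.card_singleton] at h1
    omega
  have hyw : y • w = w := by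
    apply huniq
    · have h1 : x ^ 2 • (y • w) = y • w := by
        rw [← mul_smul, ← hyx, mul_smul, mem_fixB.1 hw]
      have h2 := pow_fix h1 12
      rw [← pow_mul, show 2 * 12 = 23 + 1 by norm_num, pow_succ, hx, one_mul] at h2
      exact h2
    · intro h
      apply hw0
      have : w = y⁻¹ • (y • w) := by rw [inv_smul_smul]
      rw [this, h, smul_zero]
  -- the orbit
  set O := MulAction.orbit G w with hO
  have hO0 : (0 : V) ∉ O := by
    rintro ⟨g, hg⟩
    apply hw0
    have : w = g⁻¹ • (g • w) := by rw [inv_smul_smul]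
    rw [this]
    have hg' : g • w = 0 := hg
    rw [hg', smul_zero]
  have hOG : ∀ (g : G), ∀ v ∈ O, g • v ∈ O := fun g v hv => MulAction.mem_orbit_of_mem_orbit g hv
  have h253 : 253 ∣ Nat.card (MulAction.stabilizer G w) := by
    have h1 : 23 ∣ Nat.card (MulAction.stabilizer G w) := by
      have h2 : orderOf (⟨x, hw⟩ : MulAction.stabilizer G w) = 23 := by
        rw [← Subgroup.orderOf_coe]
        apply orderOf_eq_prime hx
        rintro h
        obtain ⟨v, hv⟩ := hx1
        change x = 1 at h
        rw [h, one_smul] at hv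
        exact hv rfl
      rw [← h2]
      exact orderOf_dvd_natCard _
    have h3 : 11 ∣ Nat.card (MulAction.stabilizer G w) := by
      have h2 : orderOf (⟨y, hyw⟩ : MulAction.stabilizer G w) = 11 := by
        rw [← Subgroup.orderOf_coe]
        apply orderOf_eq_prime hy
        rintro h
        obtain ⟨v, hv⟩ := hy1
        change y = 1 at h
        rw [h, one_smul] at hv
        exact hv rfl
      rw [← h2]
      exact orderOf_dvd_natCard _
    exact Nat.Coprime.mul_dvd_of_dvd_of_dvd (by norm_num : Nat.Coprime 23 11) h1 h3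
  have hNdvd : Nat.card O ∣ 967680 := by
    have h1 : Nat.card O * Nat.card (MulAction.stabilizer G w) = Nat.card G := by
      rw [← Nat.card_prod]
      exact Nat.card_congr (MulAction.orbitProdStabilizerEquivGroup G w)
    have h2 : Nat.card O * 253 ∣ 967680 * 253 := by
      refine (Nat.mul_dvd_mul_left _ h253).trans ?_
      rw [h1]
      exact hG
    exact Nat.dvd_of_mul_dvd_mul_right (by norm_num) h2
  have hNle : Nat.card O < 4097 := by
    have : Nat.card O ≤ Nat.card V := Nat.card_le_card_of_injective _ Subtype.val_injective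
    rw [hc] at this
    omega
  have h23 : Nat.card O % 23 = 1 := by
    have h1 := card_modEq (α := V) hx O (hOG x)
    have h2 : Nat.card {s : V // s ∈ O ∧ x • s = s} = 1 := by
      rw [Nat.card_eq_one_iff_unique]
      refine ⟨⟨?_⟩, ⟨⟨w, MulAction.mem_orbit_self w, hw⟩⟩⟩
      rintro ⟨a, ha, ha'⟩ ⟨b, hb, hb'⟩
      apply Subtype.ext
      change a = b
      rw [huniq a ha' (fun h => hO0 (h ▸ ha)), huniq b hb' (fun h => hO0 (h ▸ hb))]
    rw [h2] at h1
    exact h1
  have h11 : Nat.card O % 11 = 1 ∨ Nat.card O % 11 = 2 ∨ Nat.card O % 11 = 3 := by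
    have h1 := card_modEq (α := V) hy O (hOG y)
    have h2 : 0 < Nat.card {s : V // s ∈ O ∧ y • s = s} := by
      have : Nonempty {s : V // s ∈ O ∧ y • s = s} := ⟨⟨w, MulAction.mem_orbit_self w, hyw⟩⟩
      exact Nat.card_pos
    have h3 : Nat.card {s : V // s ∈ O ∧ y • s = s} < 4 := by
      rw [← hcy]
      have h4 : Nat.card (Option {s : V // s ∈ O ∧ y • s = s}) ≤ Nat.card (fixB V y) := by
        apply Nat.card_le_card_of_injective (fun a => match a with
          | none => (⟨0, (fixB V y).zero_mem⟩ : fixB V y)
          | some s => ⟨s.1, s.2.2⟩)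
        rintro (_ | a) (_ | b) hab
        · rfl
        · exfalso
          have h5 : (0 : V) = b.1 := congrArg Subtype.val hab
          exact hO0 (h5 ▸ b.2.1)
        · exfalso
          have h5 : a.1 = (0 : V) := congrArg Subtype.val hab
          exact hO0 (h5 ▸ a.2.1)
        · have h5 : (⟨a.1, a.2.2⟩ : fixB V y) = ⟨b.1, b.2.2⟩ := hab
          have h6 := congrArg Subtype.val h5
          exact congrArg some (Subtype.ext h6)
      rw [Finite.card_option] at h4
      omega
    unfold Nat.ModEq at h1
    rw [Nat.mod_eq_of_lt (show Nat.card {s : V // s ∈ O ∧ y • s = s} < 11 by omega)] at h1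
    omega
  rcases arith _ hNle hNdvd h23 h11 with hN | hN
  · -- a fixed vector
    apply hw0
    apply hG0
    intro g
    have h1 : Subsingleton O := (Nat.card_eq_one_iff_unique.1 hN).1
    have h2 := Subsingleton.elim (⟨g • w, hOG g w (MulAction.mem_orbit_self w)⟩ : O) ⟨w, MulAction.mem_orbit_self w⟩
    exact congrArg Subtype.val h2
  · -- an orbit of length 24
    have hfO : O.Finite := Set.toFinite O
    set Of := hfO.toFinset with hOf
    have hmemO : ∀ v, v ∈ Of ↔ v ∈ O := fun v => Set.Finite.mem_toFinset hfO
    have hcO : Of.card = 24 := by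
      rw [← hN, ← Nat.card_eq_card_finite_toFinset hfO]
    have hsum : ∑ u ∈ Of, u = 0 := by
      apply hG0
      intro g
      rw [Finset.smul_sum]
      apply Finset.sum_nbij' (fun u => g • u) (fun u => g⁻¹ • u)
      · intro u hu; rw [hmemO] at hu ⊢; exact hOG g u hu
      · intro u hu; rw [hmemO] at hu ⊢; exact hOG g⁻¹ u hu
      · intro u _; simp
      · intro u _; simp
      · intro u _; rfl
    have hwO : w ∈ Of := (hmemO w).2 (MulAction.mem_orbit_self w)
    have hsum' : ∑ u ∈ Of.erase w, u = w := by
      have h1 := Finset.add_sum_erase Of (fun u => u) hwO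
      rw [hsum] at h1
      have h2 : ∑ u ∈ Of.erase w, u = w + (w + ∑ u ∈ Of.erase w, u) := by rw [← add_assoc, hV, zero_add]
      rw [h2, h1, add_zero]
    have hcE : (Of.erase w).card = 23 := by rw [Finset.card_erase_of_mem hwO, hcO]
    -- the norm of `x`
    let Nx : V →+ V :=
      { toFun := fun v => ∑ k ∈ Finset.range 23, x ^ k • v
        map_zero' := by simp
        map_add' := fun a b => by simp only [smul_add, Finset.sum_add_distrib] }
    have hNx : ∀ v ∈ O, Nx v = w := by
      intro v hv
      change ∑ k ∈ Finset.range 23, x ^ k • v = w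
      by_cases hvw : v = w
      · subst hvw
        rw [Finset.sum_congr rfl (fun k _ => pow_fix (mem_fixB.1 hw) k), Finset.sum_const, Finset.card_range]
        have : (23 : ℕ) • v = v + (11 : ℕ) • (v + v) := by abel
        rw [this, hV, smul_zero, add_zero]
      · have hxv : x • v ≠ v := by
          intro h
          exact hvw (huniq v h (fun h => hO0 (h ▸ hv)))
        have hinj : Set.InjOn (fun k => x ^ k • v) (Finset.range 23 : Set ℕ) := by
          intro i hi j hj hij
          have key : ∀ i j : ℕ, i < j → j < 23 → x ^ i • v = x ^ j • v → False := by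
            intro i j hij hj h
            have h1 : x ^ (j - i) • v = v := by
              have h2 : x ^ j = x ^ i * x ^ (j - i) := by rw [← pow_add]; congr 1; omega
              rw [h2, mul_smul] at h
              exact ((MulAction.injective (x ^ i)) h).symm
            have h3 : Nat.Coprime (j - i) 23 := by
              rw [Nat.coprime_comm, Nat.Prime.coprime_iff_not_dvd (by norm_num)]
              intro h4
              have := Nat.le_of_dvd (by omega) h4
              omega
            obtain ⟨m, -, hm⟩ := Nat.exists_mul_mod_eq_one_of_coprime h3 (by norm_num)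
            have h5 := pow_fix h1 m
            rw [← pow_mul, ← Nat.div_add_mod ((j - i) * m) 23, hm, pow_succ, pow_mul, hx, one_pow, one_mul] at h5
            exact hxv h5
          simp only [Finset.coe_range, Set.mem_Iio] at hi hj
          rcases lt_trichotomy i j with h | h | h
          · exact (key i j h hj hij).elim
          · exact h
          · exact (key j i h hi hij.symm).elim
        have himg : (Finset.range 23).image (fun k => x ^ k • v) = Of.erase w := by
          apply Finset.eq_of_subset_of_card_le
          · intro u hu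
            obtain ⟨k, _, rfl⟩ := Finset.mem_image.1 hu
            rw [Finset.mem_erase, hmemO]
            refine ⟨?_, hOG _ v hv⟩
            intro h
            apply hvw
            have h2 : x ^ k • v = x ^ k • w := by rw [h, pow_fix (mem_fixB.1 hw)]
            exact MulAction.injective (x ^ k) h2
          · rw [hcE, Finset.card_image_of_injOn hinj, Finset.card_range]
        rw [← hsum', ← himg, Finset.sum_image hinj]
    let W : AddSubgroup V :=
      { carrier := {v | ∀ g : G, Nx (g • v) = 0}
        zero_mem' := fun g => by rw [smul_zero, map_zero]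
        add_mem' := fun {a b} ha hb g => by rw [smul_add, map_add, ha g, hb g, add_zero]
        neg_mem' := fun {a} ha g => by rw [smul_neg, map_neg, ha g, neg_zero] }
    have hwW : w ∉ W := by
      intro h
      have h1 : ∀ g : G, Nx (g • w) = 0 := h
      have h2 := h1 1
      rw [one_smul, hNx w (MulAction.mem_orbit_self w)] at h2
      exact hw0 h2
    have hO2 : ∃ v ∈ O, v ≠ w := by
      have h1 : (Of.erase w).Nonempty := by rw [← Finset.card_pos, hcE]; norm_num
      obtain ⟨v, hv⟩ := h1
      rw [Finset.mem_erase, hmemO] at hv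
      exact ⟨v, hv.2, hv.1⟩
    obtain ⟨v, hv, hvw⟩ := hO2
    have hvW : v - w ∈ W := by
      intro g
      rw [smul_sub, map_sub, hNx _ (hOG g v hv), hNx _ (hOG g w (MulAction.mem_orbit_self w)), sub_self]
    rcases hirr W (fun g u hu g' => by
      have hu' : ∀ g : G, Nx (g • u) = 0 := hu
      rw [← mul_smul]
      exact hu' _) with h | h
    · rw [h] at hvW
      exact hvw (sub_eq_zero.1 (AddSubgroup.mem_bot.1 hvW))
    · exact hwW (by rw [h]; exact AddSubgroup.mem_top w)

end Cfsg.Agent.H4.LDM.Twelve
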