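import Cfsg.Agent.H915.LD
import Cfsg.Agent.H4.LDM.Cls
import Cfsg.Agent.H4.LDM.Twelve
import Cfsg.Agent.H921.SporBase

/-!
# Stage 1 lemmas for groups containing a Frobenius group `23:11`, characteristic two

* `pr_of_core` : `Core.pr` for any index type;
* `Pair X Y` : `X ^ 23 = 1`, `Y ^ 11 = 1`, `Y X = X² Y`; `Pair.main` : for `|F| = 2, 4`, `n ≤ 12`: `11 ≤ n`, and
  `tr Y ^ 2 = tr Y`;
* `Pair.twelve` : no irreducible group with a `Pair` of order dividing `|M24|` in dimension 12 over `|F| = 2`.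
-/

set_option autoImplicit false
set_option linter.unusedSectionVars false

namespace Cfsg.Agent.H4.LDM.Stage

open Cfsg Cfsg.Geo Matrix Cfsg.Agent.H915.LD Cfsg.Agent.H4.LDM

universe u v w

section

variable {ι : Type} [Fintype ι] [DecidableEq ι] {F : Type u} [Field F] {P : Subgroup (GL ι F)}

/-- reindexing -/
noncomputable def reix (ι : Type) [Fintype ι] [DecidableEq ι] (F : Type u) [Field F] :
    GL ι F ≃* GL (Fin (Fintype.card ι)) F :=
  Units.mapEquiv (Matrix.reindexAlgEquiv F F (Fintype.equivFin ι)).toMulEquiv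

theorem pr_of_core {T : Type v} [Group T] (_hC : Core P) (e : Soc P ≃* T) {r : ℕ}
    (hr : (Nat.card ((scalars ι F).subgroupOf P)).Coprime r) : H912.Bd.PR F (Fintype.card ι) r T := by
  have h1 := ker_comp e
  refine ⟨P, inferInstance, e.toMonoidHom.comp (toSoc P), (reix ι F).toMonoidHom.comp P.subtype,
    e.surjective.comp (toSoc_surjective P), ?_, ?_, ?_⟩
  · intro x hx y
    have h2 : x ∈ (e.toMonoidHom.comp (toSoc P)).ker := hx
    rw [h1] at h2
    exact ((Subgroup.mem_center_iff.1 (scalars_le_center h2)) y).symm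
  · rw [h1]; exact hr
  · have h2 : Function.Injective ((reix ι F).toMonoidHom.comp P.subtype) :=
      (reix ι F).injective.comp P.subtype_injective
    rw [(MonoidHom.ker_eq_bot_iff _).2 h2]
    exact bot_le

/-- the natural action -/
def rhoI (ι : Type) [Fintype ι] [DecidableEq ι] (F : Type u) [Field F] : GL ι F →* ((ι → F) ≃ₗ[F] (ι → F)) where
  toFun g :=
    { toFun := fun w => (g : Matrix ι ι F) *ᵥ w
      invFun := fun w => ((g⁻¹ : GL ι F) : Matrix ι ι F) *ᵥ w
      left_inv := fun w => by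
        change (((g⁻¹ : GL ι F) : Matrix ι ι F)) *ᵥ ((g : Matrix ι ι F) *ᵥ w) = w
        rw [Matrix.mulVec_mulVec, ← Units.val_mul, inv_mul_cancel, Units.val_one, Matrix.one_mulVec]
      right_inv := fun w => by
        change (g : Matrix ι ι F) *ᵥ (((g⁻¹ : GL ι F) : Matrix ι ι F) *ᵥ w) = w
        rw [Matrix.mulVec_mulVec, ← Units.val_mul, mul_inv_cancel, Units.val_one, Matrix.one_mulVec]
      map_add' := fun w w' => Matrix.mulVec_add _ _ _
      map_smul' := fun c w => Matrix.mulVec_smul _ _ _ }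
  map_one' := by
    apply LinearEquiv.ext
    intro w
    exact Matrix.one_mulVec w
  map_mul' g g' := by
    apply LinearEquiv.ext
    intro w
    exact (Matrix.mulVec_mulVec w (g : Matrix ι ι F) (g' : Matrix ι ι F)).symm

theorem rhoI_smul (g : GL ι F) (w : ι → F) : rhoI ι F g • w = (g : Matrix ι ι F) *ᵥ w := rfl

theorem rhoI_injective : Function.Injective (rhoI ι F) := by
  intro g g' hgg
  apply Units.ext
  apply Matrix.mulVec_injective
  funext w
  exact DFunLike.congr_fun hgg w

theorem exists_ne {g : GL ι F} (hg : g ≠ 1) : ∃ w : ι → F, rhoI ι F g • w ≠ w := by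
  by_contra h
  push Not at h
  apply hg
  apply rhoI_injective
  rw [map_one]
  apply LinearEquiv.ext
  intro w
  exact h w

/-- the fixed vectors -/
def fixS (g : GL ι F) : Submodule F (ι → F) where
  carrier := {w | (g : Matrix ι ι F) *ᵥ w = w}
  zero_mem' := Matrix.mulVec_zero _
  add_mem' := fun {a b} ha hb => by
    change (g : Matrix ι ι F) *ᵥ (a + b) = a + b
    rw [Matrix.mulVec_add, show (g : Matrix ι ι F) *ᵥ a = a from ha, show (g : Matrix ι ι F) *ᵥ b = b from hb]
  smul_mem' := fun c a ha => by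
    change (g : Matrix ι ι F) *ᵥ (c • a) = c • a
    rw [Matrix.mulVec_smul, show (g : Matrix ι ι F) *ᵥ a = a from ha]

theorem mem_fixS {g : GL ι F} {w : ι → F} : w ∈ fixS g ↔ (g : Matrix ι ι F) *ᵥ w = w := Iff.rfl

/-- a Frobenius group `23:11` -/
structure Pair (X Y : GL ι F) : Prop where
  x_pow : X ^ 23 = 1
  x_ne : X ≠ 1
  y_pow : Y ^ 11 = 1
  yx : Y * X = X ^ 2 * Y

variable {X Y : GL ι F}

theorem Pair.yxk (h : Pair X Y) (k : ℕ) : Y * X ^ k = X ^ (2 * k) * Y := by
  induction k with
  | zero => simp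
  | succ k ih => rw [pow_succ, ← mul_assoc, ih, mul_assoc, h.yx, ← mul_assoc, ← pow_add]; rfl

theorem Pair.tr_mul (h : Pair X Y) (k : ℕ) : tr (X ^ k * Y) = tr Y := by
  have h1 : (X ^ k)⁻¹ * Y * ((X ^ k)⁻¹)⁻¹ = X ^ k * Y := by
    rw [inv_inv, mul_assoc, h.yxk, ← mul_assoc]
    congr 1
    rw [inv_mul_eq_iff_eq_mul, ← pow_add]
    congr 1
    omega
  rw [← h1, tr_conj]

theorem Pair.y_mem (h : Pair X Y) {w : ι → F} (hw : w ∈ fixS X) : (Y : Matrix ι ι F) *ᵥ w ∈ fixS X := by
  have h1 : rhoI ι F X ^ 2 • (rhoI ι F Y • w) = rhoI ι F Y • w := by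
    rw [← mul_smul, ← map_pow, ← map_mul, ← h.yx, map_mul, mul_smul]
    congr 1
  have h2 : ∀ k : ℕ, (rhoI ι F X ^ 2) ^ k • (rhoI ι F Y • w) = rhoI ι F Y • w := by
    intro k
    induction k with
    | zero => rw [pow_zero, one_smul]
    | succ k ih => rw [pow_succ, mul_smul, h1, ih]
  have h3 := h2 12
  rw [← pow_mul, show 2 * 12 = 23 + 1 by norm_num, pow_succ, ← map_pow, h.x_pow, map_one, one_mul] at h3
  exact h3

section finite

variable [Fintype F]

theorem arith {q n d : ℕ} (hq : q = 2 ∨ q = 4) (hn : n < 13) (hd : d < n) (h : q ^ n % 23 = q ^ d % 23) :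
    n = d + 11 := by
  have h2 : ∀ n < 13, ∀ d < n, 2 ^ n % 23 = 2 ^ d % 23 → n = d + 11 := by decide +kernel
  have h4 : ∀ n < 13, ∀ d < n, 4 ^ n % 23 = 4 ^ d % 23 → n = d + 11 := by decide +kernel
  rcases hq with rfl | rfl
  · exact h2 n hn d hd h
  · exact h4 n hn d hd h

theorem card_fixS (g : GL ι F) : Nat.card (fixS g) = Fintype.card F ^ Module.finrank F (fixS g) := by
  classical
  rw [Nat.card_eq_fintype_card]
  exact Module.card_eq_pow_finrank

theorem Pair.dim (h : Pair X Y) (hF : Fintype.card F = 2 ∨ Fintype.card F = 4) (hn : Fintype.card ι ≤ 12) :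
    Fintype.card ι = Module.finrank F (fixS X) + 11 := by
  have : Fact (Nat.Prime 23) := ⟨by norm_num⟩
  have h1 := card_modEq (α := ι → F) (x := rhoI ι F X) (r := 23) (by rw [← map_pow, h.x_pow, map_one]) Set.univ
    (fun _ _ => trivial)
  have h2 : Nat.card (Set.univ : Set (ι → F)) = Fintype.card F ^ Fintype.card ι := by
    rw [Nat.card_univ, Nat.card_eq_fintype_card, Fintype.card_fun]
  have h3 : Nat.card {s : ι → F // s ∈ (Set.univ : Set (ι → F)) ∧ rhoI ι F X • s = s} = Nat.card (fixS X) := by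
    apply Nat.card_congr
    exact Equiv.subtypeEquivRight fun v => by
      rw [mem_fixS, ← rhoI_smul]
      simp
  rw [h2, h3, card_fixS] at h1
  apply arith hF (by omega) _ h1
  have h4 : Module.finrank F (fixS X) ≤ Module.finrank F (ι → F) := Submodule.finrank_le _
  rw [Module.finrank_fintype_fun_eq_card] at h4
  rcases lt_or_eq_of_le h4 with h5 | h5
  · exact h5
  · exfalso
    have h6 : fixS X = ⊤ := Submodule.eq_top_of_finrank_eq (by rw [h5, Module.finrank_fintype_fun_eq_card])
    obtain ⟨w, hw⟩ := exists_ne h.x_ne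
    apply hw
    have : w ∈ fixS X := by rw [h6]; trivial
    exact this

theorem Pair.fix (h : Pair X Y) (hF : Fintype.card F = 2 ∨ Fintype.card F = 4) (hn : Fintype.card ι ≤ 12) {w : ι → F}
    (hw : w ∈ fixS X) : (Y : Matrix ι ι F) *ᵥ w = w := by
  have : Fact (Nat.Prime 11) := ⟨by norm_num⟩
  have h1 := h.dim hF hn
  have h2 : Nat.card (fixS X) ≤ 4 := by
    rw [card_fixS]
    have : Module.finrank F (fixS X) = 0 ∨ Module.finrank F (fixS X) = 1 := by omega
    rcases this with h3 | h3 <;> rw [h3] <;> rcases hF with h4 | h4 <;> rw [h4] <;> norm_num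
  have h3 := card_modEq (α := ι → F) (x := rhoI ι F Y) (r := 11) (by rw [← map_pow, h.y_pow, map_one])
    (fixS X : Set (ι → F)) (fun s hs => h.y_mem hs)
  have h4 : Nat.card {s : ι → F // s ∈ (fixS X : Set (ι → F)) ∧ rhoI ι F Y • s = s} ≤ Nat.card (fixS X) :=
    Nat.card_le_card_of_injective (fun s => (⟨s.1, s.2.1⟩ : fixS X)) (fun a b hab => by
      have h5 := congrArg Subtype.val hab
      exact Subtype.ext h5)
  have h5 : Nat.card (fixS X : Set (ι → F)) = Nat.card (fixS X) := rfl
  rw [h5] at h3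
  have h6 : Nat.card {s : ι → F // s ∈ (fixS X : Set (ι → F)) ∧ rhoI ι F Y • s = s} = Nat.card (fixS X) := by
    unfold Nat.ModEq at h3
    rw [Nat.mod_eq_of_lt (show Nat.card (fixS X) < 11 by omega), Nat.mod_eq_of_lt (by omega)] at h3
    exact h3.symm
  have h7 : Function.Surjective (fun s : {s : ι → F // s ∈ (fixS X : Set (ι → F)) ∧ rhoI ι F Y • s = s} =>
      (⟨s.1, s.2.1⟩ : fixS X)) := by
    have hinj : Function.Injective (fun s : {s : ι → F // s ∈ (fixS X : Set (ι → F)) ∧ rhoI ι F Y • s = s} =>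
      (⟨s.1, s.2.1⟩ : fixS X)) := fun a b hab => by
      have h5 := congrArg Subtype.val hab
      exact Subtype.ext h5
    exact (Nat.bijective_iff_injective_and_card _).2 ⟨hinj, h6⟩ |>.2
  obtain ⟨s, hs⟩ := h7 ⟨w, hw⟩
  have h8 : s.1 = w := congrArg Subtype.val hs
  rw [← h8]
  exact s.2.2

theorem Pair.trace [CharP F 2] (h : Pair X Y) (hF : Fintype.card F = 2 ∨ Fintype.card F = 4)
    (hn : Fintype.card ι ≤ 12) : tr Y ^ 2 = tr Y := by
  have h2 : (2 : F) = 0 := CharP.cast_eq_zero F 2
  set N : Matrix ι ι F := ∑ k ∈ Finset.range 23, ((X ^ k : GL ι F) : Matrix ι ι F) with hN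
  have hXN : (X : Matrix ι ι F) * N = N := by
    rw [hN, Finset.mul_sum]
    have h3 : ∀ k, (X : Matrix ι ι F) * ((X ^ k : GL ι F) : Matrix ι ι F) =
        ((X ^ (k + 1) : GL ι F) : Matrix ι ι F) := fun k => by rw [pow_succ', Units.val_mul]
    rw [Finset.sum_congr rfl (fun k _ => h3 k)]
    have h4 := Finset.sum_range_succ' (fun k => ((X ^ k : GL ι F) : Matrix ι ι F)) 23
    have h5 := Finset.sum_range_succ (fun k => ((X ^ k : GL ι F) : Matrix ι ι F)) 23
    rw [h4, h.x_pow, pow_zero] at h5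
    exact add_right_cancel h5
  have hYN : (Y : Matrix ι ι F) * N = N := by
    apply Matrix.mulVec_injective
    funext w
    rw [← Matrix.mulVec_mulVec]
    apply h.fix hF hn
    rw [mem_fixS, Matrix.mulVec_mulVec, hXN]
  have hXk : ∀ k : ℕ, ((X ^ k : GL ι F) : Matrix ι ι F) * N = N := by
    intro k
    induction k with
    | zero => rw [pow_zero, Units.val_one, one_mul]
    | succ k ih => rw [pow_succ, Units.val_mul, mul_assoc, hXN, ih]
  have hNN : N * N = N := by
    conv_lhs => rw [hN]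
    rw [Finset.sum_mul, Finset.sum_congr rfl (fun k _ => hXk k), Finset.sum_const, Finset.card_range]
    have : (23 : ℕ) • N = N + (11 : F) • ((2 : F) • N) := by
      rw [← Nat.cast_smul_eq_nsmul F, smul_smul, show ((23 : ℕ) : F) = 1 + 11 * 2 by norm_num, add_smul, one_smul]
    rw [this, h2, zero_smul, smul_zero, add_zero]
  have h3 : tr Y = N.trace := by
    have h4 : (N * (Y : Matrix ι ι F)).trace = tr Y := by
      rw [hN, Finset.sum_mul, Matrix.trace_sum]
      have h5 : ∀ k ∈ Finset.range 23, (((X ^ k : GL ι F) : Matrix ι ι F) * (Y : Matrix ι ι F)).trace = tr Y := by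
        intro k _
        have h6 := h.tr_mul k
        unfold tr at h6
        rw [Units.val_mul] at h6
        exact h6
      rw [Finset.sum_congr rfl h5, Finset.sum_const, Finset.card_range, nsmul_eq_mul]
      push_cast
      linear_combination (11 * tr Y) * h2
    rw [← h4, Matrix.trace_mul_comm, hYN]
  rw [h3]
  have h4 := H911.Base.trace_pow_char_pow 2 N 1
  rw [pow_one, pow_two, hNN] at h4
  exact h4.symm

theorem Pair.twelve (h : Pair X Y) (hy1 : Y ≠ 1) (hF : Fintype.card F = 2) (hn : Fintype.card ι = 12)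
    (hirr : ActsIrreducibly (matrixSet P)) (hX : X ∈ P) (hY : Y ∈ P) (hP : Nat.card P ∣ 244823040) : False := by
  have hV : ∀ v : ι → F, v + v = 0 := by
    intro v
    have h2 : (2 : F) = 0 := by
      have := Nat.cast_card_eq_zero F
      rw [hF] at this
      exact_mod_cast this
    funext i
    change v i + v i = 0
    linear_combination (v i) * h2
  let act : DistribMulAction P (ι → F) := DistribMulAction.compHom (ι → F) ((rhoI ι F).comp P.subtype)
  have hsm : ∀ (g : P) (v : ι → F), g • v = ((g : GL ι F) : Matrix ι ι F) *ᵥ v := fun g v => rfl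
  refine Twelve.no_twelve (V := ι → F) (G := P) (x := ⟨X, hX⟩) (y := ⟨Y, hY⟩) hV ?_ hP ?_ ?_ ?_ ?_ ?_ ?_
  · rw [Nat.card_eq_fintype_card, Fintype.card_fun, hF, hn]; norm_num
  · intro W hW
    have hF2 : ∀ c : F, c = 0 ∨ c = 1 := by
      classical
      intro c
      by_contra hc
      push Not at hc
      have h1 : ({0, 1, c} : Finset F).card ≤ 2 := by
        rw [← hF]
        exact Finset.card_le_univ _
      rw [Finset.card_insert_of_notMem (by simp [hc.1.symm]), Finset.card_insert_of_notMem (by simp [hc.2.symm]),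
        Finset.card_singleton] at h1
      omega
    let W' : Submodule F (ι → F) :=
      { W with
        smul_mem' := fun c v hv => by
          rcases hF2 c with rfl | rfl
          · rw [zero_smul]; exact W.zero_mem
          · rw [one_smul]; exact hv }
    have hmem : ∀ v, v ∈ W' ↔ v ∈ W := fun v => Iff.rfl
    rcases hirr W' (by
      rintro s ⟨g, hg, rfl⟩ v hv
      obtain ⟨w, hw, rfl⟩ := hv
      rw [Matrix.toLin'_apply]
      exact hW ⟨g, hg⟩ w hw) with h1 | h1
    · left
      ext v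
      rw [← hmem, h1, Submodule.mem_bot, AddSubgroup.mem_bot]
    · right
      ext v
      rw [← hmem, h1]
      exact ⟨fun _ => AddSubgroup.mem_top v, fun _ => trivial⟩
  · exact Subtype.ext h.x_pow
  · obtain ⟨w, hw⟩ := exists_ne h.x_ne
    exact ⟨w, hw⟩
  · exact Subtype.ext h.y_pow
  · obtain ⟨w, hw⟩ := exists_ne hy1
    exact ⟨w, hw⟩
  · exact Subtype.ext h.yx

end finite

end

end Cfsg.Agent.H4.LDM.Stage
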